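import Cfsg.Agent.Lib.M24Order.E6.Kill

/-!
# Simple groups of order 244823040: a character of degree 23 from the computations, for `|N(P₇) : C(P₇)| = 6`
-/

set_option autoImplicit false
set_option linter.unusedSectionVars false
set_option linter.style.haveILetI false

namespace CfsgLib.M24Order.E6

open Cfsg
open CfsgLib CfsgLib.BrauerTuan CfsgLib.OrderBlocks CfsgLib.M24Order

universe u

/-- What is needed of the computations in one case. -/
def CaseOK (com k5 : ℕ) : Prop :=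
  ∃ (canon : List ℕ) (tabS tabZ : List (ℕ × T5)) (plans : List Plan),
    checkLists com canon = true ∧ checkTups k5 true 5 tabS = true ∧ checkTups k5 false 7 tabZ = true ∧
      (∀ e ∈ canon.map (mkT · 9), ∃ P ∈ plans, P.base = e) ∧ (∀ P ∈ plans, P.es.Perm P.base) ∧
      ∀ P ∈ plans, okPlan com k5 tabS tabZ P = true

variable {G : Type u} [Group G] [Fintype G] [IsSimpleGroup G]
  [Fact (Nat.Prime 5)] [Fact (Nat.Prime 7)] [Fact (Nat.Prime 11)] [Fact (Nat.Prime 23)]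

/-- **Step 4 for `|N(P₇) : C(P₇)| = 6`, from the computations.** -/
theorem exists_deg23_of_cases (hdegs : E3.checkDegs = true) (hcases : ∀ com ∈ [22, 3520], ∀ k5 ∈ ks5, CaseOK com k5)
    (T23 : Ctx G 23 1) (he23 : T23.D.e = 11) (T11 : Ctx G 11 1) (he11 : T11.D.e = 10) {k5 k7 : ℕ} (hk5 : k5 ∈ ks5)
    (B5 : Blk G 5 ⟨5, k5, 4, [1771, -2024, -5544, 5796], none⟩) {r : List ℕ × List ℤ} (hr : r ∈ six7)
    (hk7 : k7 ∈ r.1) (B7 : Blk G 7 ⟨7, k7, 6, r.2, none⟩) {χ : IrrCharacter G} (hχ5 : χ ∈ B5.xl) (hχ7 : χ ∈ B7.xl)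
    (hdeg : deg χ = 2024) (hσ7 : B7.σ χ = 1) : ∃ ξ : IrrCharacter G, deg ξ = 23 := by
  by_contra hno
  obtain ⟨M⟩ := exists_members hdegs T23 he23 T11 he11 hk5 B5 hr hk7 B7 hχ5 hχ7 hdeg hσ7 fun ξ h => hno ⟨ξ, h⟩
  have hcom : M.com ∈ [22, 3520] := by
    rcases M.cm_deg with ⟨-, e, -⟩ | ⟨-, e, -⟩ <;> rw [e] <;> simp
  obtain ⟨canon, tabS, tabZ, plans, h1, h2, h3, h4, h5, h6⟩ := hcases M.com hcom k5 hk5
  exact false_of_members M h1 h2 h3 h4 h5 h6

end CfsgLib.M24Order.E6
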