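import Cfsg.Agent.Lib.M24Order.E6.Cols

/-!
# Simple groups of order 244823040, `|N(P₇) : C(P₇)| = 6`: the block for `11` at the involutions
-/

set_option autoImplicit false
set_option linter.unusedSectionVars false
set_option linter.style.haveILetI false
set_option maxHeartbeats 1000000

namespace CfsgLib.M24Order.E6

open Cfsg
open scoped ComplexConjugate CfsgLib.Char
open CfsgLib CfsgLib.BrauerTuan CfsgLib.OrderBlocks CfsgLib.M24Order
open scoped _root_.Classical

universe u

theorem valOne_map {α : Type*} (f : α → TEnt) (A : α → ℤ) (c : α) : ∀ l : List α,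
    (∀ a ∈ l, (f a).2 = 1 → a = c) → (∃ a ∈ l, (f a).2 = 1) → valOne (l.map f) (l.map A) = A c
  | [], _, h => by simp at h
  | a :: l, h1, h2 => by
    simp only [List.map_cons, valOne]
    split_ifs with h
    · rw [h1 a List.mem_cons_self h]
    · refine valOne_map f A c l (fun b hb => h1 b (List.mem_cons_of_mem _ hb)) ?_
      obtain ⟨b, hb, hb'⟩ := h2
      rcases List.mem_cons.mp hb with rfl | hb
      · exact absurd hb' h
      · exact ⟨b, hb, hb'⟩

variable {G : Type u} [Group G] [Fintype G]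

/-- An involution inverting `P` is conjugate to an inverting involution of `N(P)`. -/
theorem conj_of_inverts [IsSimpleGroup G] {p : ℕ} [Fact p.Prime] {o : Opt} (B : Blk G p o) (hk : o.k = 1)
    {s t v : G} (hs : s * s = 1) (hv : v ∈ (B.T.P : Subgroup G)) (hv1 : v ≠ 1)
    (hN : s ∈ Subgroup.normalizer ((B.T.P : Subgroup G) : Set G)) (hP : s ∉ (B.T.P : Subgroup G))
    (hinv : s * v * s = v⁻¹) (ht : t * t = 1) (htv : t * v * t = v⁻¹) : IsConj s t := by
  have hc : Commute (t * s) v := by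
    have hi : s * v⁻¹ * s = v := by
      have := congrArg (·⁻¹) hinv
      simpa [inv_eq_of_mul_eq_one_right hs, mul_assoc] using this
    calc t * s * v = t * (s * v * s) * s := by rw [mul_assoc t, mul_assoc t, mul_assoc (s * v), hs, mul_one]
      _ = t * v⁻¹ * s := by rw [hinv]
      _ = t * (t * v * t) * s := by rw [htv]
      _ = v * (t * s) := by rw [← mul_assoc, ← mul_assoc, ht, one_mul, mul_assoc]
  have hmem : t * s ∈ (B.T.P : Subgroup G) := by
    refine B.cent hk ▸ Subgroup.mem_centralizer_iff.mpr fun q hq => ?_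
    rw [← zpowers_of_mem B.T.card_P hv hv1] at hq
    obtain ⟨i, rfl⟩ := Subgroup.mem_zpowers_iff.mp hq
    exact (hc.zpow_right i).symm.eq
  obtain ⟨u, -, hu⟩ := E3.isConj_coset B.T.card_P (B.cent hk) hN hP hmem
  rw [mul_assoc _ s s, hs, mul_one] at hu
  exact isConj_iff.mpr ⟨u, hu⟩

/-- Two involutions with product `v`: the second inverts `v`. -/
theorem second_inverts {a b v : G} (ha : a * a = 1) (hb : b * b = 1) (h : a * b = v) : b * v * b = v⁻¹ := by
  rw [← h, mul_inv_rev, inv_eq_of_mul_eq_one_right ha, inv_eq_of_mul_eq_one_right hb]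
  calc b * (a * b) * b = b * a * (b * b) := by group
    _ = b * a := by rw [hb, mul_one]

theorem sq_of_isConj {a b : G} (ha : a * a = 1) (h : IsConj a b) : b * b = 1 := by
  obtain ⟨c, rfl⟩ := isConj_iff.mp h
  calc c * a * c⁻¹ * (c * a * c⁻¹) = c * (a * a) * c⁻¹ := by group
    _ = 1 := by rw [ha]; group

variable [IsSimpleGroup G] [Fact (Nat.Prime 5)] [Fact (Nat.Prime 7)] [Fact (Nat.Prime 11)] [Fact (Nat.Prime 23)]
  {k5 k7 : ℕ} {M : Members G k5 k7} {rs : List (IrrCharacter G)} {g : G}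

theorem Members.alt_mem (M : Members G k5 k7) : M.alt ∈ M.cs := by
  by_cases h : deg M.cm = 22
  · exact (M.alt_spec h).1
  · rw [Members.alt, dif_neg h]; exact M.cm_cs

/-- The further members of the block for `11`, in the bounds of `allMs`. -/
theorem Members.exists_ms (hr : M.Adm rs) {P : List ℤ → Bool} (h : allMs (rs.map M.ent) P = true) :
    ∃ ms : List ℤ, ms.Perm (M.ms.map M.x11) ∧ P ms = true := by
  have hlen := M.lenM
  have hfn : (E3.fixedNum (rs.map M.ent) : ℤ) =
      (((M.cs ++ [M.ψ, M.ψ']).filter fun χ => decide (E3.delta (deg χ) ≠ 0)).length : ℤ) := by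
    rw [E3.fixedNum_map, E3.length_filter_ne (fun χ => E3.delta (deg χ)),
      M.sum_ext hr (fun χ => if E3.delta (deg χ) = 0 then (0 : ℤ) else 1) (by rw [M.ψ'_deg])]
    refine congrArg List.sum (List.map_congr_left fun χ hχ => ?_)
    rw [(M.ent_deg hr hχ).1]
    split_ifs <;> simp
  simp only [allMs, Bool.or_eq_true, decide_eq_true_eq] at h
  have hrel := M.rel11 hr intAt_one (by simp)
  simp only [iv_one, M.sd.2.2] at hrel
  have hsum : (M.ms.map M.x11).sum = -1 + 5796 - E3.fixedSum (rs.map M.ent) := by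
    rw [E3.fixedSum_map, List.map_congr_left (l := rs) (g := fun χ => ((M.ent χ).2 : ℤ) *
        E3.delta (M.ent χ).1.natAbs * (deg χ : ℤ)) fun χ hχ => by rw [(M.ent_deg hr hχ).1],
      List.map_congr_left (l := M.ms) (f := M.x11) (g := fun χ => sgn (M.x11 χ) * (deg χ : ℤ)) fun χ hχ => by
        simp only [Members.x11]; rw [(M.B11.sgn_eq (M.mem_ms hχ)).1]]
    push_cast at hrel
    linarith
  obtain ⟨ms, hms, hP⟩ := E3.allM_sound P E3.free11 _ _ _ [] (M.ms.map M.x11) (h.resolve_left (by omega))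
    (fun a ha => by obtain ⟨χ, hχ, rfl⟩ := List.mem_map.mp ha; exact M.memM χ hχ)
    (by rw [List.length_map]; omega) hsum (by
      have := M.sq_one hr
      rw [E3.sqSum_map, List.map_map]
      simp only [Function.comp_def]
      linarith)
  exact ⟨ms, hms, hP⟩

/-- What the link says: the only member of degree 22, and no 252. -/
theorem Members.link_facts (hr : M.Adm rs) (hl : linkOn (rs.map M.tent) = true) :
    deg M.cm = 22 ∧ (∀ φ ∈ M.cs, deg φ = 22 → φ = M.cm) ∧ ∀ φ ∈ M.cs, deg φ ≠ 252 := by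
  simp only [linkOn, M.ents_tent, Bool.and_eq_true, List.any_eq_true, List.mem_map, decide_eq_true_eq,
    Bool.not_eq_true', List.contains_eq_mem, decide_eq_false_iff_not] at hl
  obtain ⟨⟨⟨_, ⟨χ, -, rfl⟩, ht⟩, hcnt⟩, hno⟩ := hl
  have h22 : deg M.cm = 22 := by
    rcases M.tag_cases χ with e | ⟨-, -, h⟩ | ⟨-, -, h⟩ | ⟨e, -, -⟩
    · simp only [Members.tent, e] at ht; norm_num at ht
    · exact h
    · exact h
    · simp only [Members.tent, e] at ht; norm_num at ht
  have hin : ∀ φ ∈ M.cs, φ ∈ rs := fun φ hφ => hr.symm.subset (List.mem_append_left _ hφ)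
  have hent : ∀ φ ∈ M.cs, M.ent φ = (M.B23.σ φ * (deg φ : ℤ), 1) := fun φ hφ => M.ent_cs hφ
  refine ⟨h22, fun φ hφ hd => ?_, fun φ hφ hd => hno ⟨φ, hin φ hφ, ?_⟩⟩
  · by_contra hne
    have hp := ((List.perm_cons_erase (hin M.cm M.cm_cs)).map M.ent).count_eq ((-22 : ℤ), 1)
    rw [hcnt, List.map_cons, hent _ M.cm_cs, (M.σ23_small M.cm_cs).1 h22, List.count_cons_self] at hp
    have : ((-22 : ℤ), 1) ∈ (rs.erase M.cm).map M.ent :=
      List.mem_map.mpr ⟨φ, (List.mem_erase_of_ne hne).mpr (hin φ hφ), by rw [hent φ hφ, (M.σ23_small hφ).1 hd]⟩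
    have := List.count_pos_iff.mpr this
    omega
  · rw [hent φ hφ, (M.σ23_small hφ).2.2 hd]

/-- The value of the member of degree 22 among the entries. -/
theorem Members.valOne_eq (hr : M.Adm rs) (h22 : deg M.cm = 22) (A : IrrCharacter G → ℤ) :
    valOne (rs.map M.tent) (rs.map A) = A M.cm := by
  refine valOne_map M.tent A M.cm rs (fun a _ ha => ?_)
    ⟨M.cm, hr.symm.subset (List.mem_append_left _ M.cm_cs), by simp [Members.tent, Members.tag, h22]⟩
  simp only [Members.tent] at ha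
  rcases M.tag_cases a with e | ⟨-, e, -⟩ | ⟨e, -, -⟩ | ⟨e, -, -⟩
  · omega
  · exact e
  · omega
  · omega

/-- An arrangement of the further members for the search at `g`. -/
theorem Members.exists_arrange (hr : M.Adm rs) (hg : orderOf g = 2) {ms : List ℤ}
    (hms : ms.Perm (M.ms.map M.x11)) :
    ∃ ms2 : List (IrrCharacter G), ms2.Perm M.ms ∧ ms2.map M.x11 = arrange (rs.map M.tent) ms ∧
      E3.Asc M.x11 (fun χ => sgn (M.x11 χ) * iv χ g)
        (if (lv (rs.map M.tent) ⟨cC g, M.tup g, rs.map fun χ => iv χ g⟩).isSome then ms2.tail else ms2) ∧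
      (linkOn (rs.map M.tent) = true → (-230 : ℤ) ∈ ms ∧ ∀ z : G, orderOf z = 2 → ∀ v a,
        lv (rs.map M.tent) ⟨cC z, M.tup z, rs.map fun χ => iv χ z⟩ = some v → ms2.head? = some a → iv a z = v) := by
  by_cases hl : linkOn (rs.map M.tent) = true
  · obtain ⟨h22, hu, h252⟩ := M.link_facts hr hl
    obtain ⟨η, hη, hd, hx, hval⟩ := M.sym22 h22 hu h252
    have hp : (M.ms.map M.x11).Perm (-230 :: (M.ms.erase η).map M.x11) := by
      have := (List.perm_cons_erase hη).map M.x11
      rwa [List.map_cons, show M.x11 η = -230 from hx] at this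
    have he : (ms.erase (-230)).Perm ((M.ms.erase η).map M.x11) := by
      have := (hms.trans hp).erase (-230)
      rwa [List.erase_cons_head] at this
    obtain ⟨ms1, hp1, hm1⟩ := exists_perm_map M.x11 (ms.erase (-230)) (M.ms.erase η) he
    obtain ⟨ms2, hp2, hm2, hasc⟩ := E3.exists_asc M.x11 (fun χ => sgn (M.x11 χ) * iv χ g) ms1
    refine ⟨η :: ms2, ((hp2.trans hp1).cons η).trans (List.perm_cons_erase hη).symm, ?_, ?_, fun _ => ⟨?_, ?_⟩⟩
    · simp only [arrange, hl, if_true, List.map_cons, hm2, hm1, show M.x11 η = -230 from hx]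
    · simp only [lv, hl, if_true, Option.isSome_some, List.tail_cons]
      exact hasc
    · exact hms.symm.subset (hp.symm.subset List.mem_cons_self)
    · intro z hz v a hv ha
      simp only [lv, hl, if_true, Option.some.injEq, M.valOne_eq hr h22] at hv
      simp only [List.head?_cons, Option.some.injEq] at ha
      subst ha
      rw [← hv]
      have hzz := mul_self_of_order_two hz
      have e := hval z
      rw [iv_spec η hzz, iv_spec M.cm hzz, hzz, value_one', h22] at e
      obtain ⟨A, hA⟩ : ∃ A, A = iv M.cm z := ⟨_, rfl⟩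
      rw [← hA] at e ⊢
      have h2 : 2 * iv η z = A * A + 20 - 2 * A := by
        apply Int.cast_injective (α := ℂ)
        push_cast at e ⊢
        linear_combination 2 * e
      obtain ⟨Q, hQ⟩ : ∃ Q, Q = A * A := ⟨_, rfl⟩
      rw [← hQ] at h2 ⊢
      omega
  · obtain ⟨ms1, hp1, hm1⟩ := exists_perm_map M.x11 ms M.ms hms
    obtain ⟨ms2, hp2, hm2, hasc⟩ := E3.exists_asc M.x11 (fun χ => sgn (M.x11 χ) * iv χ g) ms1
    rw [Bool.not_eq_true] at hl
    refine ⟨ms2, hp2.trans hp1, ?_, ?_, fun h => by rw [hl] at h; exact absurd h Bool.false_ne_true⟩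
    · simp only [arrange, hl, Bool.false_eq_true, if_false, hm2, hm1]
    · simp only [lv, hl, Bool.false_eq_true, if_false, Option.isSome_none]
      exact hasc

/-- The divisors of the common multiple for the block for `11`. -/
theorem Members.lcm11_dvd (hr : M.Adm rs) {ms2 : List (IrrCharacter G)} (hp : ms2.Perm M.ms) :
    (∀ χ ∈ rs, deg χ ∣ lcm11 (rs.map M.tent) (ms2.map M.x11)) ∧
      5796 ∣ lcm11 (rs.map M.tent) (ms2.map M.x11) ∧
      ∀ χ ∈ M.ms, deg χ ∣ lcm11 (rs.map M.tent) (ms2.map M.x11) := by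
  rw [lcm11, M.ents_tent]
  have hl := (E3.dvd_lcmEs (es := rs.map M.ent ++ (ms2.map M.x11).map fun x => (x, 1))).1
  have hlL : ∀ {d : ℕ}, (d : ℤ) ∣ (E3.lcmEs (rs.map M.ent ++ (ms2.map M.x11).map fun x => (x, 1)) : ℤ) →
      d ∣ Nat.lcm (E3.lcmEs (rs.map M.ent ++ (ms2.map M.x11).map fun x => (x, 1))) 5796 :=
    fun {d} hd => (Int.natCast_dvd_natCast.mp hd).trans (Nat.dvd_lcm_left _ _)
  refine ⟨fun χ hχ => ?_, Nat.dvd_lcm_right _ _, fun χ hχ => ?_⟩
  · rw [← (M.ent_deg hr hχ).1]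
    exact hlL (hl _ (List.mem_append_left _ (List.mem_map.mpr ⟨χ, hχ, rfl⟩)))
  · rw [← M.x11_deg hχ]
    exact hlL (hl (M.x11 χ, 1) (List.mem_append_right _
      (List.mem_map.mpr ⟨_, List.mem_map.mpr ⟨χ, hp.symm.subset hχ, rfl⟩, rfl⟩)))

/-- The search in the block for `11` at one class. -/
theorem Members.search11 (hg : orderOf g = 2) {spec dd : Bool}
    (hs : spec = true → g ∈ Subgroup.normalizer ((M.B11.T.P : Subgroup G) : Set G)) (hr : M.Adm rs) {T L : ℕ}
    {v : G} (hv : v ∈ (M.B11.T.P : Subgroup G)) (hv1 : v ≠ 1)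
    (hN : Nat.card {pr : G × G // IsConj g pr.1 ∧ IsConj g pr.2 ∧ pr.1 * pr.2 = v} = T * 11)
    {ms2 : List (IrrCharacter G)} (hp : ms2.Perm M.ms) (hL : L = lcm11 (rs.map M.tent) (ms2.map M.x11))
    {us : List ℤ} {u0 : ℤ} {lvv : Option ℤ} (hlv : ∀ w a, lvv = some w → ms2.head? = some a → iv a g = w)
    (hO : (∀ χ ∈ ms2, iv χ g ∈ opts (cC g) spec (M.x11 χ).natAbs) →
      E3.OrdFrom 0 (vars11L (cC g) spec dd L lvv (ms2.map M.x11) us) (ms2.map fun χ => iv χ g))
    (hu : u0 + E3.usum (vars11L (cC g) spec dd L lvv (ms2.map M.x11) us) (ms2.map fun χ => iv χ g) = 0)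
    {fin : List ℤ → Bool}
    (h : search6 (vars11L (cC g) spec dd L lvv (ms2.map M.x11) us)
      [seed11 T L (rs.map M.tent) ⟨cC g, M.tup g, rs.map fun χ => iv χ g⟩ u0 fin] = true) :
    fin (ms2.map fun χ => iv χ g) = true := by
  have hI := intAt_invol hg
  obtain ⟨hLr, hLd, hLm⟩ := M.lcm11_dvd hr hp
  rw [← hL] at hLr hLd hLm
  have hA : ∀ χ ∈ ms2, iv χ g ∈ opts (cC g) spec (M.x11 χ).natAbs := fun χ hχ => by
    have hm := hp.subset hχ
    rw [M.x11_deg hm]
    exact M.mem_opts (M.ms_ne_triv hm) hg hs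
  obtain ⟨s1, s2, s4, s5⟩ :=
    sums_vars11L (fun χ => iv χ g) M.x11 (C := cC g) (spec := spec) (dd := dd) (L := L) lvv ms2 us
  obtain ⟨q1, q2, q3⟩ := E3.shared11_map M.ent (fun χ => iv χ g) (L := L) rs
  simp only [seed11, M.ents_tent, q1, q2, q3] at h
  refine search6_sound h s5 List.mem_cons_self (mem_vars11L _ _ lvv ms2 us hA hlv) ?_ (hO hA) ?_ ?_ hu
  · have hb := M.sq_bound hr hI
    rw [← (hp.map fun χ => iv χ g * iv χ g).sum_eq] at hb
    simp only
    omega
  · have hrel := M.rel11 hr hI (by rw [hg]; norm_num)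
    rw [← (hp.map fun χ => sgn (M.x11 χ) * iv χ g).sum_eq] at hrel
    simp only [s1, Members.tup]
    linarith
  · have hc := M.count11 hr hI hI hLr hLd hLm hv hv1
    rw [hN, ← (hp.map fun χ => (L : ℤ) / M.x11 χ * (iv χ g * iv χ g)).sum_eq] at hc
    simp only [Nat.cast_mul, Nat.cast_ofNat] at hc
    simp only [s2, Members.tup]
    linear_combination hc

/-- No values in the block for `11` at one class. -/
theorem Members.noB11_false (hg : orderOf g = 2) {spec : Bool}
    (hs : spec = true → g ∈ Subgroup.normalizer ((M.B11.T.P : Subgroup G) : Set G)) (hr : M.Adm rs) {T : ℕ}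
    {v : G} (hv : v ∈ (M.B11.T.P : Subgroup G)) (hv1 : v ≠ 1)
    (hN : Nat.card {pr : G × G // IsConj g pr.1 ∧ IsConj g pr.2 ∧ pr.1 * pr.2 = v} = T * 11)
    {ms : List ℤ} (hms : ms.Perm (M.ms.map M.x11)) :
    noB11 spec T (rs.map M.tent) ⟨cC g, M.tup g, rs.map fun χ => iv χ g⟩ (arrange (rs.map M.tent) ms) = false := by
  obtain ⟨ms2, hp, hm, hasc, hlink⟩ := M.exists_arrange hr hg hms
  rw [← hm, Bool.eq_false_iff]
  intro h
  simp only [noB11, forceN_eq] at h
  refine Bool.false_ne_true (M.search11 hg hs hr hv hv1 hN hp rfl (fun w a hw ha => ?_)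
    (fun hA => ord_vars11L _ _ _ ms2 hasc hA) (by rw [usum_vars11L_nil]; rfl) h)
  refine (hlink ?_).2 g hg w a hw ha
  by_contra hl
  simp [lv, hl] at hw

/-- No values in the block for `11` at two classes that are not conjugate. -/
theorem Members.noB11Two_false {s z : G} (hs2 : orderOf s = 2) (hz2 : orderOf z = 2) (hr : M.Adm rs)
    (hsN : s ∈ Subgroup.normalizer ((M.B11.T.P : Subgroup G) : Set G)) (hsP : s ∉ (M.B11.T.P : Subgroup G))
    (hne : ¬ IsConj s z) {v : G} (hv : v ∈ (M.B11.T.P : Subgroup G)) (hv1 : v ≠ 1)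
    {ms : List ℤ} (hms : ms.Perm (M.ms.map M.x11)) :
    noB11Two (rs.map M.tent) ⟨cC s, M.tup s, rs.map fun χ => iv χ s⟩ ⟨cC z, M.tup z, rs.map fun χ => iv χ z⟩
      (arrange (rs.map M.tent) ms) = false := by
  obtain ⟨hinv, hNs⟩ := E3.inverts_and_pairs M.B11 rfl (by norm_num) hs2 hsN hsP hv hv1
  have hss := mul_self_of_order_two hs2
  have hzz := mul_self_of_order_two hz2
  have hzero : ∀ {a : G}, a * a = 1 →
      Nat.card {pr : G × G // IsConj a pr.1 ∧ IsConj z pr.2 ∧ pr.1 * pr.2 = v} = 0 := by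
    intro a ha
    refine Nat.card_eq_zero.mpr (Or.inl ⟨fun ⟨pr, h1, h2, h3⟩ => hne ?_⟩)
    have p2 := sq_of_isConj hzz h2
    exact (conj_of_inverts M.B11 rfl hss hv hv1 hsN hsP hinv p2
      (second_inverts (sq_of_isConj ha h1) p2 h3)).trans h2.symm
  obtain ⟨ms2, hp, hm, hasc, hlink⟩ := M.exists_arrange hr hs2 hms
  have hlk : ∀ {z' : G}, orderOf z' = 2 → ∀ w a,
      lv (rs.map M.tent) ⟨cC z', M.tup z', rs.map fun χ => iv χ z'⟩ = some w → ms2.head? = some a → iv a z' = w :=
    fun {z'} hz' w a hw ha => (hlink (by by_contra hl; simp [lv, hl] at hw)).2 z' hz' w a hw ha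
  rw [← hm, Bool.eq_false_iff]
  intro h
  obtain ⟨L, hL⟩ : ∃ L, L = lcm11 (rs.map M.tent) (ms2.map M.x11) := ⟨_, rfl⟩
  simp only [noB11Two, forceN_eq, forceI_eq, ← hL] at h
  have h1 := M.search11 hs2 (fun _ => hsN) hr hv hv1 (by rw [hNs, one_mul]) hp hL (hlk hs2)
    (fun hA => ord_vars11L _ _ _ ms2 hasc hA) (by rw [usum_vars11L_nil]; rfl) h
  refine Bool.false_ne_true (M.search11 hz2 (fun e => Bool.noConfusion e) hr hv hv1
    (by rw [hzero hzz, zero_mul]) hp hL (hlk hz2) (fun _ => ord_false11L _ _ _ ms2 _) ?_ h1)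
  obtain ⟨hLr, hLd, hLm⟩ := M.lcm11_dvd hr hp
  rw [← hL] at hLr hLd hLm
  have hc := M.count11 hr (intAt_invol hs2) (intAt_invol hz2) hLr hLd hLm hv hv1
  rw [hzero hss, ← (hp.map fun χ => (L : ℤ) / M.x11 χ * (iv χ s * iv χ z)).sum_eq, Nat.cast_zero, zero_mul,
    zero_mul, ← mul_add, mul_eq_zero] at hc
  rw [usum_vars11L, M.ents_tent, shared2_map (fun χ => iv χ s) M.ent (fun χ => iv χ z) rs]
  simp only [Members.tup]
  have := hc.resolve_left (by norm_num)
  linarith

end CfsgLib.M24Order.E6
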