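import Cfsg.Agent.Lib.M24Order.Bridge4
import Cfsg.Agent.Lib.M24Order.Keys6Defs

/-!
# The computations for `|N(P₇) : C(P₇)| = 6`, in terms of sums over lists
-/

set_option autoImplicit false
set_option linter.unusedSectionVars false

namespace CfsgLib.M24Order.E6

open CfsgLib.M24Order CfsgLib.OrderBlocks

variable {α : Type*} (f : α → TEnt) (A : α → ℤ)

theorem ents_map (l : List α) : ents (l.map f) = l.map fun a => (f a).1 := by
  simp only [ents, List.map_map, Function.comp_def]

theorem mem_vars {C : ℕ} {spec dd : Bool} {L : ℕ} : ∀ (p : Option TEnt) (l : List α) (us : List ℤ),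
    (∀ a ∈ l, A a ∈ optsI C spec (f a)) → E3.Mem (vars C spec dd L p (l.map f) us) (l.map A)
  | _, [], _, _ => List.Forall₂.nil
  | p, a :: l, us, h => List.Forall₂.cons (h a List.mem_cons_self)
      (mem_vars (some (f a)) l us.tail fun b hb => h b (List.mem_cons_of_mem _ hb))

theorem sums_vars {C : ℕ} {spec dd : Bool} {L : ℕ} : ∀ (p : Option TEnt) (l : List α) (us : List ℤ),
    E3.vsum (vars C spec dd L p (l.map f) us) (l.map A) = (l.map fun a => sgn (f a).1.1 * A a).sum ∧
      E3.wsum (vars C spec dd L p (l.map f) us) (l.map A) =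
        (l.map fun a => (L : ℤ) / (f a).1.1 * (A a * A a)).sum ∧
      (E3.msum (vars C spec dd L p (l.map f) us) (l.map A) : ℤ) =
        (l.map fun a => ((f a).1.2 : ℤ) * (A a * A a)).sum ∧
      ((∀ a ∈ l, 0 < (f a).1.2) → ∀ U ∈ vars C spec dd L p (l.map f) us, 0 < U.m)
  | _, [], _ => ⟨rfl, rfl, rfl, fun _ U hU => by simp [vars] at hU⟩
  | p, a :: l, us => by
    obtain ⟨h1, h2, h3, h4⟩ := sums_vars (C := C) (spec := spec) (dd := dd) (L := L) (some (f a)) l us.tail
    simp only [List.map_cons, vars, E3.vsum, E3.wsum, E3.msum, List.sum_cons, h1, h2, Nat.cast_add, Nat.cast_mul,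
      E3.sq_toNat, h3]
    refine ⟨trivial, trivial, trivial, fun hp U hU => ?_⟩
    rcases List.mem_cons.mp hU with rfl | hU
    · exact hp a List.mem_cons_self
    · exact h4 (fun b hb => hp b (List.mem_cons_of_mem _ hb)) U hU

theorem usum_vars_nil {C : ℕ} {spec dd : Bool} {L : ℕ} : ∀ (p : Option TEnt) (l : List α),
    E3.usum (vars C spec dd L p (l.map f) []) (l.map A) = 0
  | _, [] => rfl
  | p, a :: l => by
    simp only [List.map_cons, vars, E3.usum, List.tail_nil, usum_vars_nil (some (f a)) l, List.headD_nil]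
    ring

theorem usum_vars {C : ℕ} {spec dd : Bool} {L : ℕ} (B : α → ℤ) : ∀ (p : Option TEnt) (l : List α),
    E3.usum (vars C spec dd L p (l.map f) (l.map B)) (l.map A) =
      (l.map fun a => (L : ℤ) / (f a).1.1 * (B a * A a)).sum
  | _, [] => rfl
  | p, a :: l => by
    simp only [List.map_cons, vars, E3.usum, List.tail_cons, List.headD_cons, usum_vars B (some (f a)) l,
      List.sum_cons]
    ring

theorem ord_false {C : ℕ} {spec : Bool} {L : ℕ} : ∀ (p : Option TEnt) (prev : ℕ) (l : List α) (us : List ℤ),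
    E3.OrdFrom prev (vars C spec false L p (l.map f) us) (l.map A)
  | _, _, [], _ => trivial
  | p, _, a :: l, us => ⟨fun h => by simp at h, ord_false (some (f a)) _ l us.tail⟩

theorem ord_asc {C : ℕ} {spec : Bool} {L : ℕ} : ∀ (a : α) (l : List α),
    E3.Asc f (fun b => sgn (f b).1.1 * A b) (a :: l) → (∀ b ∈ a :: l, A b ∈ optsI C spec (f b)) →
      ∀ (p : Option TEnt) (prev : ℕ), (p = some (f a) →
        (prev : ℤ) ≤ (E3.maxL ((optsI C spec (f a)).map fun z => (sgn (f a).1.1 * z).natAbs) : ℤ) +
          sgn (f a).1.1 * A a) →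
        E3.OrdFrom prev (vars C spec true L p ((a :: l).map f) []) ((a :: l).map A)
  | a, l, hasc, hA, p, prev, h => by
    refine ⟨fun hs => h (of_decide_eq_true (by simpa [vars] using hs)), ?_⟩
    cases l with
    | nil => trivial
    | cons b l =>
      refine ord_asc b l hasc.2 (fun x hx => hA x (List.mem_cons_of_mem _ hx)) (some (f a)) _ fun he => ?_
      rw [Option.some.injEq] at he
      have h0 : 0 ≤ (E3.maxL ((optsI C spec (f a)).map fun z => (sgn (f a).1.1 * z).natAbs) : ℤ) +
          sgn (f a).1.1 * A a :=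
        E3.natAbs_le_bias (f := fun z => sgn (f a).1.1 * z) (hA a List.mem_cons_self)
      show ((((E3.maxL ((optsI C spec (f a)).map fun z => (sgn (f a).1.1 * z).natAbs) : ℕ) : ℤ) +
        sgn (f a).1.1 * A a).toNat : ℤ) ≤ _
      rw [Int.toNat_of_nonneg h0, ← he]
      have := hasc.1 he
      simp only [← he] at this
      linarith

theorem ord_vars {C : ℕ} {spec : Bool} {L : ℕ} : ∀ (l : List α), E3.Asc f (fun b => sgn (f b).1.1 * A b) l →
    (∀ b ∈ l, A b ∈ optsI C spec (f b)) → E3.OrdFrom 0 (vars C spec true L none (l.map f) []) (l.map A)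
  | [], _, _ => trivial
  | a :: l, h, hA => ord_asc f A a l h hA none 0 fun he => absurd he (by simp)

theorem mem_varsR {os : TEnt → List ℤ} {L : ℕ} : ∀ (l : List α), (∀ a ∈ l, A a ∈ os (f a)) →
    E3.Mem (varsR os L (l.map f)) (l.map A)
  | [], _ => List.Forall₂.nil
  | a :: l, h => List.Forall₂.cons (h a List.mem_cons_self) (mem_varsR l fun b hb => h b (List.mem_cons_of_mem _ hb))

theorem sums_varsR {os : TEnt → List ℤ} {L : ℕ} : ∀ (l : List α),
    E3.vsum (varsR os L (l.map f)) (l.map A) = (l.map fun a => sgn (f a).1.1 * A a).sum ∧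
      E3.wsum (varsR os L (l.map f)) (l.map A) =
        244823040 * (l.map fun a => (L : ℤ) / (f a).1.1 * (A a * A a)).sum ∧
      E3.usum (varsR os L (l.map f)) (l.map A) = 0 ∧
      (E3.msum (varsR os L (l.map f)) (l.map A) : ℤ) = (l.map fun a => ((f a).1.2 : ℤ) * (A a * A a)).sum ∧
      (∀ prev, E3.OrdFrom prev (varsR os L (l.map f)) (l.map A)) ∧
      ((∀ a ∈ l, 0 < (f a).1.2) → ∀ U ∈ varsR os L (l.map f), 0 < U.m)
  | [] => ⟨rfl, rfl, rfl, rfl, fun _ => trivial, fun _ U hU => by simp [varsR] at hU⟩
  | a :: l => by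
    obtain ⟨h1, h2, h3, h4, h5, h6⟩ := sums_varsR (os := os) (L := L) l
    simp only [List.map_cons, varsR, E3.vsum, E3.wsum, E3.usum, E3.msum, List.sum_cons, h1, h2, h3, Nat.cast_add,
      Nat.cast_mul, E3.sq_toNat, h4]
    refine ⟨trivial, by ring, by ring, trivial, fun prev => ⟨fun h => by simp at h, h5 _⟩, fun hp U hU => ?_⟩
    rcases List.mem_cons.mp hU with rfl | hU
    · exact hp a List.mem_cons_self
    · exact h6 (fun b hb => hp b (List.mem_cons_of_mem _ hb)) U hU

theorem shared2_map {L : ℕ} (e : α → E3.Ent) (B : α → ℤ) : ∀ (l : List α),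
    shared2 L (l.map e) (l.map A) (l.map B) = (l.map fun a => ((e a).2 : ℤ) * E3.delta (e a).1.natAbs *
      (A a * B a) * ((L / (e a).1.natAbs : ℕ) : ℤ)).sum
  | [] => rfl
  | a :: l => by simp only [List.map_cons, shared2, shared2_map e B l, List.sum_cons]

section Eleven

variable (g : α → ℤ)

theorem mem_vars11 {C : ℕ} {spec dd : Bool} {L : ℕ} : ∀ (p : Option ℤ) (l : List α) (us : List ℤ),
    (∀ a ∈ l, A a ∈ opts C spec (g a).natAbs) → E3.Mem (vars11 C spec dd L p (l.map g) us) (l.map A)
  | _, [], _, _ => List.Forall₂.nil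
  | p, a :: l, us, h => List.Forall₂.cons (h a List.mem_cons_self)
      (mem_vars11 (some (g a)) l us.tail fun b hb => h b (List.mem_cons_of_mem _ hb))

theorem sums_vars11 {C : ℕ} {spec dd : Bool} {L : ℕ} : ∀ (p : Option ℤ) (l : List α) (us : List ℤ),
    E3.vsum (vars11 C spec dd L p (l.map g) us) (l.map A) = (l.map fun a => sgn (g a) * A a).sum ∧
      E3.wsum (vars11 C spec dd L p (l.map g) us) (l.map A) =
        244823040 * (l.map fun a => (L : ℤ) / g a * (A a * A a)).sum ∧
      (E3.msum (vars11 C spec dd L p (l.map g) us) (l.map A) : ℤ) = (l.map fun a => A a * A a).sum ∧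
      (∀ U ∈ vars11 C spec dd L p (l.map g) us, 0 < U.m)
  | _, [], _ => ⟨rfl, rfl, rfl, fun U hU => by simp [vars11] at hU⟩
  | p, a :: l, us => by
    obtain ⟨h1, h2, h4, h5⟩ := sums_vars11 (C := C) (spec := spec) (dd := dd) (L := L) (some (g a)) l us.tail
    simp only [List.map_cons, vars11, E3.vsum, E3.wsum, E3.msum, List.sum_cons, h1, h2, Nat.cast_add, Nat.cast_mul,
      E3.sq_toNat, h4]
    refine ⟨trivial, by ring, by ring, fun U hU => ?_⟩
    rcases List.mem_cons.mp hU with rfl | hU
    · exact Nat.one_pos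
    · exact h5 U hU

theorem usum_vars11_nil {C : ℕ} {spec dd : Bool} {L : ℕ} : ∀ (p : Option ℤ) (l : List α),
    E3.usum (vars11 C spec dd L p (l.map g) []) (l.map A) = 0
  | _, [] => rfl
  | p, a :: l => by
    simp only [List.map_cons, vars11, E3.usum, List.tail_nil, usum_vars11_nil (some (g a)) l, List.headD_nil]
    ring

theorem usum_vars11 {C : ℕ} {spec dd : Bool} {L : ℕ} (B : α → ℤ) : ∀ (p : Option ℤ) (l : List α),
    E3.usum (vars11 C spec dd L p (l.map g) (l.map B)) (l.map A) =
      (l.map fun a => (L : ℤ) / g a * (B a * A a)).sum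
  | _, [] => rfl
  | p, a :: l => by
    simp only [List.map_cons, vars11, E3.usum, List.tail_cons, List.headD_cons, usum_vars11 B (some (g a)) l,
      List.sum_cons]
    ring

theorem ord_false11 {C : ℕ} {spec : Bool} {L : ℕ} : ∀ (p : Option ℤ) (prev : ℕ) (l : List α) (us : List ℤ),
    E3.OrdFrom prev (vars11 C spec false L p (l.map g) us) (l.map A)
  | _, _, [], _ => trivial
  | p, _, a :: l, us => ⟨fun h => by simp at h, ord_false11 (some (g a)) _ l us.tail⟩

theorem ord_asc11 {C : ℕ} {spec : Bool} {L : ℕ} : ∀ (a : α) (l : List α),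
    E3.Asc g (fun b => sgn (g b) * A b) (a :: l) → (∀ b ∈ a :: l, A b ∈ opts C spec (g b).natAbs) →
      ∀ (p : Option ℤ) (prev : ℕ), (p = some (g a) →
        (prev : ℤ) ≤ (E3.maxL ((opts C spec (g a).natAbs).map fun z => (sgn (g a) * z).natAbs) : ℤ) +
          sgn (g a) * A a) →
        E3.OrdFrom prev (vars11 C spec true L p ((a :: l).map g) []) ((a :: l).map A)
  | a, l, hasc, hA, p, prev, h => by
    refine ⟨fun hs => h (of_decide_eq_true (by simpa [vars11] using hs)), ?_⟩
    cases l with
    | nil => trivial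
    | cons b l =>
      refine ord_asc11 b l hasc.2 (fun x hx => hA x (List.mem_cons_of_mem _ hx)) (some (g a)) _ fun he => ?_
      rw [Option.some.injEq] at he
      have h0 : 0 ≤ (E3.maxL ((opts C spec (g a).natAbs).map fun z => (sgn (g a) * z).natAbs) : ℤ) +
          sgn (g a) * A a :=
        E3.natAbs_le_bias (f := fun z => sgn (g a) * z) (hA a List.mem_cons_self)
      show ((((E3.maxL ((opts C spec (g a).natAbs).map fun z => (sgn (g a) * z).natAbs) : ℕ) : ℤ) +
        sgn (g a) * A a).toNat : ℤ) ≤ _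
      rw [Int.toNat_of_nonneg h0, ← he]
      have := hasc.1 he
      simp only [← he] at this
      linarith

theorem ord_vars11 {C : ℕ} {spec : Bool} {L : ℕ} : ∀ (l : List α), E3.Asc g (fun b => sgn (g b) * A b) l →
    (∀ b ∈ l, A b ∈ opts C spec (g b).natAbs) →
      ∀ prev : ℕ, E3.OrdFrom prev (vars11 C spec true L none (l.map g) []) (l.map A)
  | [], _, _, _ => trivial
  | a :: l, h, hA, prev => ord_asc11 A g a l h hA none prev fun he => absurd he (by simp)

/-- The unknowns with a known first value: the first list entry is the head, in the order of the others. -/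
theorem sums_vars11L {C : ℕ} {spec dd : Bool} {L : ℕ} (lv : Option ℤ) : ∀ (l : List α) (us : List ℤ),
    E3.vsum (vars11L C spec dd L lv (l.map g) us) (l.map A) = (l.map fun a => sgn (g a) * A a).sum ∧
      E3.wsum (vars11L C spec dd L lv (l.map g) us) (l.map A) =
        244823040 * (l.map fun a => (L : ℤ) / g a * (A a * A a)).sum ∧
      (E3.msum (vars11L C spec dd L lv (l.map g) us) (l.map A) : ℤ) = (l.map fun a => A a * A a).sum ∧
      (∀ U ∈ vars11L C spec dd L lv (l.map g) us, 0 < U.m) := by
  intro l us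
  cases lv with
  | none => exact sums_vars11 A g none l us
  | some v =>
    cases l with
    | nil => exact ⟨rfl, rfl, rfl, fun U hU => by simp [vars11L, vars11] at hU⟩
    | cons a l =>
      obtain ⟨h1, h2, h4, h5⟩ := sums_vars11 A g (C := C) (spec := spec) (dd := dd) (L := L) none l us.tail
      simp only [List.map_cons, vars11L, E3.vsum, E3.wsum, E3.msum, List.sum_cons, h1, h2, Nat.cast_add,
        Nat.cast_mul, E3.sq_toNat, h4]
      refine ⟨trivial, by ring, by ring, fun U hU => ?_⟩
      rcases List.mem_cons.mp hU with rfl | hU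
      · exact Nat.one_pos
      · exact h5 U hU

theorem mem_vars11L {C : ℕ} {spec dd : Bool} {L : ℕ} (lv : Option ℤ) : ∀ (l : List α) (us : List ℤ),
    (∀ a ∈ l, A a ∈ opts C spec (g a).natAbs) → (∀ v a, lv = some v → l.head? = some a → A a = v) →
      E3.Mem (vars11L C spec dd L lv (l.map g) us) (l.map A) := by
  intro l us h hv
  cases lv with
  | none => exact mem_vars11 A g none l us h
  | some v =>
    cases l with
    | nil => exact List.Forall₂.nil
    | cons a l =>
      refine List.Forall₂.cons (List.mem_filter.mpr ⟨h a List.mem_cons_self, decide_eq_true (hv v a rfl rfl)⟩) ?_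
      exact mem_vars11 A g none l us.tail fun b hb => h b (List.mem_cons_of_mem _ hb)

theorem usum_vars11L_nil {C : ℕ} {spec dd : Bool} {L : ℕ} (lv : Option ℤ) : ∀ (l : List α),
    E3.usum (vars11L C spec dd L lv (l.map g) []) (l.map A) = 0 := by
  intro l
  cases lv with
  | none => exact usum_vars11_nil A g none l
  | some v =>
    cases l with
    | nil => rfl
    | cons a l =>
      simp only [List.map_cons, vars11L, E3.usum, List.tail_nil, usum_vars11_nil A g none l, List.headD_nil]
      ring

theorem usum_vars11L {C : ℕ} {spec dd : Bool} {L : ℕ} (B : α → ℤ) (lv : Option ℤ) : ∀ (l : List α),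
    E3.usum (vars11L C spec dd L lv (l.map g) (l.map B)) (l.map A) =
      (l.map fun a => (L : ℤ) / g a * (B a * A a)).sum := by
  intro l
  cases lv with
  | none => exact usum_vars11 A g B none l
  | some v =>
    cases l with
    | nil => rfl
    | cons a l =>
      simp only [List.map_cons, vars11L, E3.usum, List.tail_cons, List.headD_cons, usum_vars11 A g B none l,
        List.sum_cons]
      ring

theorem ord_false11L {C : ℕ} {spec : Bool} {L : ℕ} (lv : Option ℤ) : ∀ (l : List α) (us : List ℤ),
    E3.OrdFrom 0 (vars11L C spec false L lv (l.map g) us) (l.map A) := by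
  intro l us
  cases lv with
  | none => exact ord_false11 A g none 0 l us
  | some v =>
    cases l with
    | nil => trivial
    | cons a l => exact ⟨fun h => by simp at h, ord_false11 A g none _ l us.tail⟩

theorem ord_vars11L {C : ℕ} {spec : Bool} {L : ℕ} (lv : Option ℤ) : ∀ (l : List α),
    E3.Asc g (fun b => sgn (g b) * A b) (if lv.isSome then l.tail else l) →
      (∀ b ∈ l, A b ∈ opts C spec (g b).natAbs) →
        E3.OrdFrom 0 (vars11L C spec true L lv (l.map g) []) (l.map A) := by
  intro l hasc hA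
  cases lv with
  | none => exact ord_vars11 A g l hasc hA 0
  | some v =>
    cases l with
    | nil => trivial
    | cons a l =>
      exact ⟨fun h => by simp at h, ord_vars11 A g l hasc (fun b hb => hA b (List.mem_cons_of_mem _ hb)) _⟩

end Eleven

end CfsgLib.M24Order.E6
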