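import Cfsg.Agent.Lib.OrderBlocks.Section
import Cfsg.Agent.Lib.Char.PermMultiplicity

/-!
# A real member of degree `≡ 1` of the principal block for 7 with `|N(P₇) : C(P₇)|` even has indicator one

An element `g` of 2-power order inverting `P = P₇` gives the subgroups `⟨g²⟩`, `⟨g⟩` and `P⟨g⟩`; the
multiplicities `a`, `b`, `c` of the principal character satisfy `7 (b - c) = 3 (a - 1)`, so one of them is odd.
-/

set_option autoImplicit false
set_option linter.unusedSectionVars false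
set_option linter.style.haveILetI false

namespace CfsgLib.M24Order.E6

open Cfsg
open scoped ComplexConjugate CfsgLib.Char
open CfsgLib CfsgLib.BrauerTuan CfsgLib.OrderBlocks
open scoped _root_.Classical

universe u

variable {G : Type u} [Group G] [Fintype G] {n Bd k : ℕ} {qs : List ℕ}

/-- An element of 2-power order of `N(P)` inverting `P`. -/
theorem exists_inverter [Fact (Nat.Prime 7)] (T : OrderCtx G n 7 qs Bd k) (he : 2 ∣ T.D.e) :
    ∃ g : G, (∃ a : ℕ, 0 < a ∧ orderOf g = 2 ^ a) ∧ (∀ v ∈ (T.P : Subgroup G), g * v * g⁻¹ = v⁻¹) ∧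
      g * g ∈ Subgroup.centralizer ((T.P : Subgroup G) : Set G) := by
  haveI : Fact (Nat.Prime 2) := ⟨Nat.prime_two⟩
  haveI := centralizer_subgroupOf_normal (T.P : Subgroup G)
  obtain ⟨C', hC'⟩ : ∃ C', C' = (Subgroup.centralizer ((T.P : Subgroup G) : Set G)).subgroupOf
    (Subgroup.normalizer ((T.P : Subgroup G) : Set G)) := ⟨_, rfl⟩
  haveI : C'.Normal := hC' ▸ centralizer_subgroupOf_normal (T.P : Subgroup G)
  obtain ⟨q, hq⟩ := exists_prime_orderOf_dvd_card'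
    (G := Subgroup.normalizer ((T.P : Subgroup G) : Set G) ⧸ C') 2
    (by rw [← Subgroup.index_eq_card, hC', index_cent T]; exact he)
  obtain ⟨x, rfl⟩ := QuotientGroup.mk_surjective q
  have hox : orderOf x ≠ 0 := (orderOf_pos x).ne'
  obtain ⟨g₀, hg₀⟩ : ∃ g₀, g₀ = x ^ (orderOf x / 2 ^ (orderOf x).factorization 2) := ⟨_, rfl⟩
  have hodd : ¬ 2 ∣ orderOf x / 2 ^ (orderOf x).factorization 2 := Nat.not_dvd_ordCompl Nat.prime_two hox
  have hq0 : (g₀ : Subgroup.normalizer ((T.P : Subgroup G) : Set G) ⧸ C') = (x : _ ⧸ C') := by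
    obtain ⟨m, hm⟩ : ∃ m, orderOf x / 2 ^ (orderOf x).factorization 2 = 2 * m + 1 :=
      ⟨(orderOf x / 2 ^ (orderOf x).factorization 2) / 2, by omega⟩
    rw [hg₀, hm, QuotientGroup.mk_pow, pow_succ, pow_mul,
      orderOf_dvd_iff_pow_eq_one.mp (dvd_of_eq hq), one_pow, one_mul]
  have hne : g₀ ∉ C' := fun h => by
    rw [← hq0, (QuotientGroup.eq_one_iff g₀).mpr h, orderOf_one] at hq
    omega
  have hsq : g₀ * g₀ ∈ C' := by
    rw [← QuotientGroup.eq_one_iff, QuotientGroup.mk_mul, hq0, ← pow_two]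
    exact orderOf_dvd_iff_pow_eq_one.mp (dvd_of_eq hq)
  have hC : (g₀ : G) * g₀ ∈ Subgroup.centralizer ((T.P : Subgroup G) : Set G) := by
    rw [hC', Subgroup.mem_subgroupOf] at hsq
    exact hsq
  have hpow : (g₀ : G) ^ (2 ^ (orderOf x).factorization 2) = 1 := by
    rw [← Subgroup.coe_pow, hg₀, ← pow_mul,
      Nat.div_mul_cancel (Nat.ordProj_dvd (orderOf x) 2), pow_orderOf_eq_one, Subgroup.coe_one]
  obtain ⟨a, ha, hoa⟩ := (Nat.dvd_prime_pow Nat.prime_two).mp (orderOf_dvd_of_pow_eq_one hpow)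
  refine ⟨g₀, ⟨a, Nat.pos_of_ne_zero fun h0 => hne ?_, hoa⟩, fun v hv => ?_, hC⟩
  · rw [h0, pow_zero, orderOf_eq_one_iff] at hoa
    rw [show g₀ = 1 from Subtype.ext hoa]
    exact one_mem _
  by_cases hv1 : v = 1
  · subst hv1; simp
  have hmem : (g₀ : G) * v * (g₀ : G)⁻¹ ∈ (T.P : Subgroup G) := (Subgroup.mem_normalizer_iff.mp g₀.2 v).mp hv
  have hzp := zpowers_of_mem T.card_P hv hv1
  obtain ⟨r, hr⟩ : ∃ r : ℤ, v ^ r = (g₀ : G) * v * (g₀ : G)⁻¹ :=
    Subgroup.mem_zpowers_iff.mp (by rw [hzp]; exact hmem)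
  have hvo := orderOf_of_mem T.card_P hv hv1
  have h2 : v ^ (r * r) = v := by
    have hc := Subgroup.mem_centralizer_iff.mp hC v hv
    calc v ^ (r * r) = ((g₀ : G) * v * (g₀ : G)⁻¹) ^ r := by rw [← hr, zpow_mul]
      _ = (g₀ : G) * v ^ r * (g₀ : G)⁻¹ := conj_zpow
      _ = (g₀ : G) * ((g₀ : G) * v * (g₀ : G)⁻¹) * (g₀ : G)⁻¹ := by rw [hr]
      _ = ((g₀ : G) * g₀ * v) * ((g₀ : G) * g₀)⁻¹ := by group
      _ = v := by rw [← hc]; group
  have h7 : (7 : ℤ) ∣ r * r - 1 := by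
    have := (orderOf_dvd_iff_zpow_eq_one (x := v) (i := r * r - 1)).mpr (by rw [zpow_sub, h2, zpow_one, mul_inv_cancel])
    rw [hvo] at this
    exact_mod_cast this
  rw [show r * r - 1 = (r - 1) * (r + 1) by ring] at h7
  have key : ∀ i j : ℤ, (7 : ℤ) ∣ i - j → v ^ i = v ^ j := fun i j h => by
    rw [← mul_inv_eq_one, ← zpow_sub]
    exact orderOf_dvd_iff_zpow_eq_one.mp (by rw [hvo]; exact_mod_cast h)
  rcases (Int.Prime.dvd_mul' (by norm_num : Nat.Prime 7) h7) with h | h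
  · exfalso
    refine hne ?_
    rw [hC', Subgroup.mem_subgroupOf]
    refine Subgroup.mem_centralizer_iff.mpr fun q hq => ?_
    rw [← hzp] at hq
    obtain ⟨i, rfl⟩ := Subgroup.mem_zpowers_iff.mp hq
    have hc : Commute (g₀ : G) v := by
      have e : (g₀ : G) * v * (g₀ : G)⁻¹ = v := by rw [← hr, key r 1 (by exact_mod_cast h), zpow_one]
      exact mul_inv_eq_iff_eq_mul.mp e
    exact (hc.zpow_right i).symm.eq
  · rw [← hr, key r (-1) (by simpa using h), zpow_neg_one]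

variable [IsSimpleGroup G] [Fact (Nat.Prime 7)] {o : Opt}

/-- A real member with sign `1` of the principal block for 7 with `|N(P) : C(P)|` even has indicator one. -/
theorem indicator_eq_one (B : PBlk G n qs Bd 7 o) (he : 2 ∣ o.e) {χ : IrrCharacter G} (hχ : χ ∈ B.xl)
    (hσ : B.σ χ = 1) (hreal : ∀ g, ((χ : G → ℂ) g).im = 0) : Char.indicator (χ : G → ℂ) = 1 := by
  obtain ⟨g, ⟨a₀, ha₀, hog⟩, hinv, hgg⟩ := exists_inverter B.T (B.e_eq ▸ he)
  obtain ⟨N, hN⟩ : ∃ N, N = orderOf g := ⟨_, rfl⟩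
  obtain ⟨M, hM⟩ : ∃ M, N = 2 * M := ⟨2 ^ (a₀ - 1), by rw [hN, hog, ← pow_succ', Nat.sub_add_cancel ha₀]⟩
  have hNpos : 0 < N := hN ▸ orderOf_pos g
  obtain ⟨w, hw, hw1⟩ := M12Order.exists_ne_one_P B.T
  have hwo := orderOf_of_mem B.T.card_P hw hw1
  have hcl := Char.isCharacter_of_isIrr χ.2
  have hreg : ∀ i : ℕ, ¬ 7 ∣ orderOf (g ^ i) := fun i h => by
    have := (Nat.prime_dvd_prime_iff_eq (by norm_num) Nat.prime_two).mp
      ((by norm_num : Nat.Prime 7).dvd_of_dvd_pow ((hog ▸ h.trans (orderOf_pow_dvd i)) : 7 ∣ 2 ^ a₀))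
    omega
  have heven : ∀ i : ℕ, g ^ (2 * i) ∈ Subgroup.centralizer ((B.T.P : Subgroup G) : Set G) := fun i => by
    rw [pow_mul, pow_two]; exact pow_mem hgg i
  -- the values
  obtain ⟨f, hf⟩ : ∃ f : ℕ → ℂ, f = fun i => (χ : G → ℂ) (g ^ i) := ⟨_, rfl⟩
  have hcoset : ∀ (i : ℕ) (j : ℕ), (χ : G → ℂ) (w ^ j * g ^ (2 * i + 1)) = f (2 * i + 1) := by
    intro i j
    have hb : ∀ v ∈ (B.T.P : Subgroup G), g ^ (2 * i + 1) * v * (g ^ (2 * i + 1))⁻¹ = v⁻¹ := fun v hv => by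
      have hc := Subgroup.mem_centralizer_iff.mp (heven i) v hv
      calc g ^ (2 * i + 1) * v * (g ^ (2 * i + 1))⁻¹ = g * (g ^ (2 * i) * v * (g ^ (2 * i))⁻¹) * g⁻¹ := by
            rw [pow_succ' g (2 * i), mul_inv_rev]; group
        _ = v⁻¹ := by rw [← hc, mul_inv_cancel_right, hinv v hv]
    have ht : w ^ (4 * j) * g ^ (2 * i + 1) * (w ^ (4 * j))⁻¹ = w ^ j * g ^ (2 * i + 1) := by
      have h1 : g ^ (2 * i + 1) * (w ^ (4 * j))⁻¹ = w ^ (4 * j) * g ^ (2 * i + 1) := by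
        have := hb _ (inv_mem (pow_mem hw (4 * j)))
        rw [inv_inv] at this
        exact mul_inv_eq_iff_eq_mul.mp this
      rw [mul_assoc, h1, ← mul_assoc, ← pow_add]
      congr 1
      rw [← pow_mod_orderOf, hwo, show (4 * j + 4 * j) % 7 = j % 7 by omega, ← hwo, pow_mod_orderOf]
    rw [← ht, Char.isClassFunction_of_isCharacter hcl, hf]
  have hsec : ∀ (i : ℕ) (j : ℕ), j < 7 →
      (χ : G → ℂ) (w ^ j * g ^ (2 * i)) = if j = 0 then f (2 * i) else 1 := by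
    intro i j hj
    split_ifs with h
    · rw [h, pow_zero, one_mul, hf]
    · have hne : w ^ j ≠ 1 := fun e => h (by
        have := orderOf_dvd_of_pow_eq_one e
        rw [hwo] at this
        omega)
      rw [B.sec hχ (pow_mem hw j) hne (heven i) (hreg _), hσ, Int.cast_one]
  -- the three subgroups
  have hzg : ∀ g' : G, ∃ b : ℕ, (∑ i ∈ Finset.range (orderOf g'), (χ : G → ℂ) (g' ^ i)) = (orderOf g' : ℂ) * b ∧
      (Odd b → Char.indicator (χ : G → ℂ) = 1) := by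
    intro g'
    obtain ⟨b, hb⟩ := Char.exists_nat_classInner (Char.isCharacter_restrict (Subgroup.zpowers g') hcl)
      (Char.isCharacter_of_isIrr Char.isIrrCharacter_one)
    refine ⟨b, ?_, fun hodd => Char.indicator_eq_one_of_odd_fixed χ.2 hreal _ hb hodd⟩
    rw [classInner, Nat.card_zpowers] at hb
    simp only [map_one, mul_one] at hb
    rw [← hb, ← mul_assoc, mul_inv_cancel₀ (by exact_mod_cast (orderOf_pos g').ne'), one_mul,
      ← Fin.sum_univ_eq_sum_range]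
    exact Fintype.sum_equiv (finEquivZPowers (isOfFinOrder_of_finite g')) _ _ fun i => rfl
  obtain ⟨a, ha, hao⟩ := hzg (g ^ 2)
  obtain ⟨b, hb, hbo⟩ := hzg g
  rw [← hN] at hb
  have hog2 : orderOf (g ^ 2) = M := by
    rw [orderOf_pow' g (by norm_num : 2 ≠ 0), ← hN, hM, Nat.gcd_eq_right (dvd_mul_right 2 M), Nat.mul_div_cancel_left _ (by norm_num)]
  rw [hog2] at ha
  simp only [← pow_mul] at ha
  -- the product of `P` and `⟨g⟩`
  have hgN : Subgroup.zpowers g ≤ Subgroup.normalizer ((B.T.P : Subgroup G) : Set G) := by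
    rw [Subgroup.zpowers_le]
    refine Subgroup.mem_normalizer_iff.mpr fun v => ⟨fun hv => hinv v hv ▸ inv_mem hv, fun hv => ?_⟩
    have h := hinv _ hv
    have hm : g * (g * v * g⁻¹) * g⁻¹ ∈ (B.T.P : Subgroup G) := h ▸ inv_mem hv
    have hc := Subgroup.mem_centralizer_iff.mp hgg _ hm
    rw [show g * (g * v * g⁻¹) * g⁻¹ * (g * g) = g * g * v by group] at hc
    rwa [← mul_left_cancel hc] at hm
  obtain ⟨H, hH⟩ : ∃ H : Subgroup G, H = (B.T.P : Subgroup G) ⊔ Subgroup.zpowers g := ⟨_, rfl⟩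
  have hHs := Subgroup.coe_mul_of_right_le_normalizer_left (B.T.P : Subgroup G) (Subgroup.zpowers g) hgN
  rw [← hH] at hHs
  let Φ : Fin 7 × Fin N → H := fun x => ⟨w ^ (x.1 : ℕ) * g ^ (x.2 : ℕ), by
    rw [← SetLike.mem_coe, hHs]
    exact Set.mul_mem_mul (pow_mem hw _) ⟨(x.2 : ℕ), zpow_natCast g _⟩⟩
  have hΦ : Function.Bijective Φ := by
    constructor
    · rintro ⟨j, i⟩ ⟨j', i'⟩ h
      have h' : w ^ (j : ℕ) * g ^ (i : ℕ) = w ^ (j' : ℕ) * g ^ (i' : ℕ) := congrArg Subtype.val h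
      have hm : (w ^ (j' : ℕ))⁻¹ * w ^ (j : ℕ) = g ^ (i' : ℕ) * (g ^ (i : ℕ))⁻¹ := by
        rw [eq_mul_inv_iff_mul_eq, mul_assoc, h', inv_mul_cancel_left]
      have hone : (w ^ (j' : ℕ))⁻¹ * w ^ (j : ℕ) = 1 := by
        by_contra hne
        have h7 := orderOf_of_mem B.T.card_P (mul_mem (inv_mem (pow_mem hw _)) (pow_mem hw _)) hne
        have hd : orderOf (g ^ (i' : ℕ) * (g ^ (i : ℕ))⁻¹) ∣ orderOf g := by
          rw [← Nat.card_zpowers g]
          exact Subgroup.orderOf_dvd_natCard _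
            (mul_mem (pow_mem (Subgroup.mem_zpowers g) _) (inv_mem (pow_mem (Subgroup.mem_zpowers g) _)))
        rw [← hm, h7, hog] at hd
        have := (Nat.prime_dvd_prime_iff_eq (by norm_num) Nat.prime_two).mp
          ((by norm_num : Nat.Prime 7).dvd_of_dvd_pow hd)
        omega
      rw [hone] at hm
      have e1 : w ^ (j : ℕ) = w ^ (j' : ℕ) := (inv_mul_eq_one.mp hone).symm
      have e2 : g ^ (i : ℕ) = g ^ (i' : ℕ) := (mul_inv_eq_one.mp hm.symm).symm
      exact Prod.ext (Fin.ext (pow_injOn_Iio_orderOf (Set.mem_Iio.mpr (hwo.symm ▸ j.2))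
        (Set.mem_Iio.mpr (hwo.symm ▸ j'.2)) e1))
        (Fin.ext (pow_injOn_Iio_orderOf (Set.mem_Iio.mpr (hN ▸ i.2)) (Set.mem_Iio.mpr (hN ▸ i'.2)) e2))
    · rintro ⟨x, hx⟩
      rw [← SetLike.mem_coe, hHs] at hx
      obtain ⟨v, hv, u, hu, rfl⟩ := hx
      rw [SetLike.mem_coe, ← zpowers_of_mem B.T.card_P hw hw1, mem_zpowers_iff_mem_range_orderOf,
        Finset.mem_image] at hv
      rw [SetLike.mem_coe, mem_zpowers_iff_mem_range_orderOf, Finset.mem_image] at hu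
      obtain ⟨j, hj, rfl⟩ := hv
      obtain ⟨i, hi, rfl⟩ := hu
      rw [Finset.mem_range, hwo] at hj
      rw [Finset.mem_range, ← hN] at hi
      exact ⟨(⟨j, hj⟩, ⟨i, hi⟩), rfl⟩
  obtain ⟨c, hc⟩ := Char.exists_nat_classInner (Char.isCharacter_restrict H hcl)
    (Char.isCharacter_of_isIrr Char.isIrrCharacter_one)
  have hco : Odd c → Char.indicator (χ : G → ℂ) = 1 := fun hodd =>
    Char.indicator_eq_one_of_odd_fixed χ.2 hreal H hc hodd
  rw [classInner, Nat.card_eq_fintype_card, ← Fintype.card_congr (Equiv.ofBijective Φ hΦ), Fintype.card_prod,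
    Fintype.card_fin, Fintype.card_fin] at hc
  simp only [map_one, mul_one] at hc
  rw [← Fintype.sum_bijective Φ hΦ (fun x => (χ : G → ℂ) (w ^ (x.1 : ℕ) * g ^ (x.2 : ℕ))) _ fun x => rfl,
    Fintype.sum_prod_type_right,
    Fin.sum_univ_eq_sum_range (fun i => ∑ j : Fin 7, (χ : G → ℂ) (w ^ (j : ℕ) * g ^ i))] at hc
  have split : ∀ h : ℕ → ℂ, ∑ i ∈ Finset.range (2 * M), h i =
      (∑ i ∈ Finset.range M, h (2 * i)) + ∑ i ∈ Finset.range M, h (2 * i + 1) := by
    intro h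
    clear ha hb hc hM hog2
    induction M with
    | zero => simp
    | succ m ih =>
      rw [show 2 * (m + 1) = 2 * m + 1 + 1 by ring, Finset.sum_range_succ, Finset.sum_range_succ, ih,
        Finset.sum_range_succ, Finset.sum_range_succ]
      ring
  rw [hM, split] at hb hc
  obtain ⟨E, hE⟩ : ∃ E, E = ∑ i ∈ Finset.range M, f (2 * i) := ⟨_, rfl⟩
  obtain ⟨O, hO⟩ : ∃ O, O = ∑ i ∈ Finset.range M, f (2 * i + 1) := ⟨_, rfl⟩
  have hE' : E = (M : ℂ) * a := by rw [hE, hf]; exact ha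
  have hb' : E + O = 2 * (M : ℂ) * b := by rw [hE, hO, hf]; push_cast at hb; exact hb
  have hc' : E + 6 * (M : ℂ) + 7 * O = 14 * (M : ℂ) * c := by
    have e1 : ∑ i ∈ Finset.range M, ∑ j : Fin 7, (χ : G → ℂ) (w ^ (j : ℕ) * g ^ (2 * i)) = E + 6 * (M : ℂ) := by
      rw [hE, Finset.sum_congr rfl (g := fun i => f (2 * i) + 6) fun i _ => by
        rw [Fin.sum_univ_seven]
        simp only [Fin.isValue, hsec i _ (Fin.is_lt _)]
        norm_num
        ring]
      rw [Finset.sum_add_distrib, Finset.sum_const, Finset.card_range, nsmul_eq_mul]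
      ring
    have e2 : ∑ i ∈ Finset.range M, ∑ j : Fin 7, (χ : G → ℂ) (w ^ (j : ℕ) * g ^ (2 * i + 1)) = 7 * O := by
      rw [hO, Finset.mul_sum]
      refine Finset.sum_congr rfl fun i _ => ?_
      simp [hcoset i]
    rw [e1, e2] at hc
    push_cast at hc
    have hM0 : (M : ℂ) ≠ 0 := by exact_mod_cast (show M ≠ 0 by omega)
    rw [← hc]
    field_simp
    ring
  have hrel : 14 * (b : ℤ) - 14 * (c : ℤ) = 6 * (a : ℤ) - 6 := by
    have hM0 : (M : ℂ) ≠ 0 := by exact_mod_cast (show M ≠ 0 by omega)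
    apply Int.cast_injective (α := ℂ)
    push_cast
    refine mul_left_cancel₀ hM0 ?_
    linear_combination hc' - 7 * hb' + 6 * hE'
  rcases Nat.even_or_odd a with h1 | h1
  · rcases Nat.even_or_odd b with h2 | h2
    · rcases Nat.even_or_odd c with h3 | h3
      · obtain ⟨x, hx⟩ := h1; obtain ⟨y, hy⟩ := h2; obtain ⟨z, hz⟩ := h3; omega
      · exact hco h3
    · exact hbo h2
  · exact hao h1

end CfsgLib.M24Order.E6
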