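import Cfsg.Agent.Lib.M24Order.Val4

/-!
# Simple groups of order 244823040: the values at elements of order 7, for `|N(P₇) : C(P₇)| = 6`
-/

set_option autoImplicit false
set_option linter.unusedSectionVars false
set_option linter.style.haveILetI false

namespace CfsgLib.M24Order.E6

open Cfsg
open scoped ComplexConjugate CfsgLib.Char
open CfsgLib CfsgLib.BrauerTuan CfsgLib.OrderBlocks CfsgLib.M24Order
open scoped _root_.Classical

universe u

variable {G : Type u} [Group G] [Fintype G] [IsSimpleGroup G] {p k : ℕ} [Fact p.Prime]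

/-- With `|N(P) : C(P)| = p - 1` an element of `P` is conjugate to its prime-to-`p` powers. -/
theorem isConj_pow_full (T : Ctx G p k) (he : T.D.e = p - 1) {y : G} (hy : y ∈ (T.P : Subgroup G))
    {j : ℕ} (hj : j.Coprime p) : IsConj y (y ^ j) := by
  haveI : IsCyclic (T.P : Subgroup G) := isCyclic_of_prime_card T.card_P
  haveI : Finite (MulAut (T.P : Subgroup G)) :=
    Finite.of_equiv _ (IsCyclic.mulAutMulEquiv (T.P : Subgroup G)).symm.toEquiv
  obtain ⟨φ, hφ⟩ : ∃ φ, φ = Subgroup.normalizerMonoidHom (T.P : Subgroup G) := ⟨_, rfl⟩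
  have hr : φ.range = ⊤ := by
    refine Subgroup.eq_top_of_card_eq _ ?_
    rw [← Subgroup.index_ker, hφ, Subgroup.normalizerMonoidHom_ker]
    rw [index_cent T, he, Nat.card_congr (IsCyclic.mulAutMulEquiv (T.P : Subgroup G)).toEquiv,
      T.card_P, Nat.card_eq_fintype_card, ZMod.card_units_eq_totient, Nat.totient_prime Fact.out]
  have hco : (Nat.card (T.P : Subgroup G)).Coprime j := by rw [T.card_P]; exact hj.symm
  have hhom : ∀ a b : (T.P : Subgroup G), (a * b) ^ j = a ^ j * b ^ j := fun a b => by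
    letI := IsCyclic.commGroup (α := (T.P : Subgroup G))
    exact mul_pow a b j
  obtain ⟨α, hα⟩ : ∃ α : MulAut (T.P : Subgroup G), ∀ a, α a = a ^ j :=
    ⟨{ powCoprime hco with map_mul' := hhom }, fun a => rfl⟩
  obtain ⟨g, hg⟩ := (hr ▸ Subgroup.mem_top α : α ∈ φ.range)
  refine isConj_iff.mpr ⟨(g : G), ?_⟩
  have := congrArg Subtype.val (DFunLike.congr_fun hg ⟨y, hy⟩)
  rw [hφ, hα, SubmonoidClass.coe_pow] at this
  exact this

/-- A character has integral values at the elements of order `7`, if `|N(P) : C(P)| = 6`. -/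
theorem int_value_seven [Fact (Nat.Prime 7)] (T : Ctx G 7 k) (he : T.D.e = 6) (χ : IrrCharacter G) {g : G}
    (hg : orderOf g = 7) : ∃ a : ℤ, (χ : G → ℂ) g = a := by
  refine exists_int_of_fix (Char.isCharacter_of_isIrr χ.2) fun j hj => ?_
  obtain ⟨a, ha⟩ := exists_conj_mem_P T hg
  have hj7 : j.Coprime 7 := Nat.Coprime.coprime_dvd_right (by rw [T.card_eq]; norm_num) hj
  obtain ⟨c, hc⟩ := isConj_iff.mp (isConj_pow_full T he ha hj7)
  have hcl := Char.isClassFunction_of_isCharacter (Char.isCharacter_of_isIrr χ.2)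
  rw [conj_pow] at hc
  calc (χ : G → ℂ) (g ^ j) = (χ : G → ℂ) (a * g ^ j * a⁻¹) := (hcl _ _).symm
    _ = (χ : G → ℂ) (c * (a * g * a⁻¹) * c⁻¹) := by rw [hc]
    _ = (χ : G → ℂ) g := (hcl _ _).trans (hcl _ _)

variable [Fact (Nat.Prime 7)] {o : Opt}

/-- An involution with `7` in the order of its centraliser: multiples of 7 in degree give multiples of 7. -/
theorem seven_dvd (B : Blk G 7 o) {g : G} (hg : orderOf g = 2) (h7 : 7 ∣ cC g) {χ : IrrCharacter G}
    (hd : 7 ∣ deg χ) : (7 : ℤ) ∣ iv χ g := by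
  obtain ⟨w, hw⟩ := exists_prime_orderOf_dvd_card' (G := Subgroup.centralizer ({g} : Set G)) 7 h7
  have hc : Commute (w : G) g := Subgroup.mem_centralizer_singleton_iff.mp w.2
  have hwo : orderOf (w : G) = 7 := by rw [Subgroup.orderOf_coe]; exact hw
  have ho : orderOf ((w : G) * g) = 14 := by
    rw [hc.orderOf_mul_eq_mul_orderOf_of_coprime (by rw [hwo, hg]; norm_num), hwo, hg]
  have hv : (χ : G → ℂ) ((w : G) * g) = ((0 : ℤ) : ℂ) := by
    rw [B.vanish hd (by rw [ho]; norm_num)]; simp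
  have hw7 : (w : G) ^ 7 = 1 := hwo ▸ pow_orderOf_eq_one _
  have hg7 : g ^ 7 = g := by
    rw [pow_succ, pow_mul g 2 3, show g ^ 2 = 1 from hg ▸ pow_orderOf_eq_one g, one_pow, one_mul]
  have hp : ((w : G) * g) ^ 7 = g := by rw [hc.mul_pow, hw7, one_mul, hg7]
  have h := pow_congr (Char.isCharacter_of_isIrr χ.2) (by norm_num : Nat.Prime 7) hv
    (b := iv χ g) (by rw [hp]; exact iv_spec χ (mul_self_of_order_two hg))
  rw [Int.zero_sub, Int.dvd_neg] at h
  exact h

/-- An involution commuting with an element of order `7`, moved to `C(P₇)`. -/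
theorem exists_seven {k : ℕ} (T : Ctx G 7 k) {z : G} (hz : orderOf z = 2) (h7 : 7 ∣ cC z) :
    2 ∣ k ∧ ∃ z' : G, orderOf z' = 2 ∧ z' ∈ Subgroup.centralizer ((T.P : Subgroup G) : Set G) ∧ cC z' = cC z ∧
      ∀ χ : IrrCharacter G, iv χ z' = iv χ z := by
  obtain ⟨w, hw⟩ := exists_prime_orderOf_dvd_card' (G := Subgroup.centralizer ({z} : Set G)) 7 h7
  obtain ⟨a, ha⟩ := exists_conj_mem_P T (w := (w : G)) (by rw [Subgroup.orderOf_coe]; exact hw)
  have hne : a * (w : G) * a⁻¹ ≠ 1 := fun e => by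
    rw [mul_inv_eq_one, mul_eq_left] at e
    have := congrArg orderOf e
    rw [Subgroup.orderOf_coe, hw, orderOf_one] at this
    norm_num at this
  have hwz : Commute (w : G) z := Subgroup.mem_centralizer_singleton_iff.mp w.2
  have hC : a * z * a⁻¹ ∈ Subgroup.centralizer ((T.P : Subgroup G) : Set G) := by
    refine Subgroup.mem_centralizer_iff.mpr fun v hv => ?_
    rw [SetLike.mem_coe, ← zpowers_of_mem T.card_P ha hne] at hv
    obtain ⟨i, rfl⟩ := Subgroup.mem_zpowers_iff.mp hv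
    exact (((hwz.map (MulAut.conj a).toMonoidHom).zpow_left i)).eq
  have ho : orderOf (a * z * a⁻¹) = 2 := ((MulAut.conj a).orderOf_eq z).trans hz
  refine ⟨?_, _, ho, hC, cC_conj a z, fun χ => iv_conj χ (mul_self_of_order_two hz) a⟩
  have h := Subgroup.orderOf_dvd_natCard _ hC
  rw [ho, T.card_C] at h
  omega

/-- An involution with `7` in the order of its centraliser: the congruence for the members of the block. -/
theorem seven_sub (B : Blk G 7 o) {g : G} (hg : orderOf g = 2) (h7 : 7 ∣ cC g) {χ : IrrCharacter G}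
    (hχ : χ ∈ B.xl) : (7 : ℤ) ∣ iv χ g - B.σ χ := by
  obtain ⟨-, z', hz', hzC, -, hiv⟩ := exists_seven B.T hg h7
  rw [← hiv]
  exact B.dvd_sub (by norm_num) hz' hzC hχ

/-- What is known of an integral value at an element of order `7`. -/
structure Val7 (k d : ℕ) (A : ℤ) : Prop where
  sq : A * A ≤ 7 * (k : ℤ)
  om : ((E3.order / (7 * k) : ℕ) : ℤ) * A % (d : ℤ) = 0
  lt : A.natAbs < d
  cong : (A - (d : ℤ)) % 7 = 0
  zero : d % 7 = 0 → A = 0

/-- The values at an element of order `7`. -/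
theorem value_seven {k : ℕ} {xs : List ℤ} {oy : Option ℤ} (B : Blk G 7 ⟨7, k, 6, xs, oy⟩) {χ : IrrCharacter G}
    (hne : χ ≠ Blocks.trivIrr G) {w : G} (hw : orderOf w = 7) :
    (χ : G → ℂ) w = iv χ w ∧ Val7 k (deg χ) (iv χ w) := by
  have hn := B.card_eq
  have hA := iv_spec_of_int (int_value_seven B.T B.e_eq χ hw)
  have hcC : cC w = 7 * k := cC_of_ctx B.T hw
  have hsq := sum_sq_le (l := [χ]) (List.nodup_singleton χ) (g := w) fun ξ hξ => by
    rw [List.mem_singleton] at hξ; subst hξ; exact hA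
  simp only [List.map_cons, List.map_nil, List.sum_cons, List.sum_nil, add_zero] at hsq
  rw [hcC] at hsq
  push_cast at hsq
  have hω := Int.emod_eq_zero_of_dvd (M12Order.omega_dvd hA)
  rw [index_eq hn, hcC] at hω
  obtain ⟨n1, n2⟩ := UThreeUnique.value_ne B.T.noncomm hne (fun e => by rw [e, orderOf_one] at hw; omega) hA
  obtain ⟨b1, b2⟩ := UThreeUnique.norm_bound hA
  rw [show charDegree (χ : G → ℂ) = deg χ from rfl] at b1 b2 n1 n2 hω
  have hc7 := pow_congr (Char.isCharacter_of_isIrr χ.2) (by norm_num : Nat.Prime 7) hA (b := (deg χ : ℤ))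
    (by rw [show w ^ 7 = 1 from hw ▸ pow_orderOf_eq_one w, value_one']; push_cast; rfl)
  exact ⟨hA, hsq, hω, by omega, Int.emod_eq_zero_of_dvd hc7,
    fun hd => iv_eq (by rw [B.vanish (Nat.dvd_of_mod_eq_zero hd) (by rw [hw])]; simp)⟩

end CfsgLib.M24Order.E6
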