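import Cfsg.Agent.Lib.M24Order.E6.Setup
import Cfsg.Agent.Lib.M24Order.E6.Seven
import Cfsg.Agent.Lib.M24Order.E6.Indicator

/-!
# Simple groups of order 244823040: the characters tied to a character of degree 22
-/

set_option autoImplicit false
set_option linter.unusedSectionVars false
set_option linter.style.haveILetI false

namespace CfsgLib.M24Order.E6

open Cfsg
open scoped ComplexConjugate CfsgLib.Char
open CfsgLib CfsgLib.BrauerTuan CfsgLib.OrderBlocks CfsgLib.M24Order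
open scoped _root_.Classical

universe u

variable {G : Type u} [Group G] [Fintype G] [IsSimpleGroup G]
  [Fact (Nat.Prime 5)] [Fact (Nat.Prime 7)] [Fact (Nat.Prime 11)] [Fact (Nat.Prime 23)] {k5 k7 : ℕ}
  {M : Members G k5 k7}

theorem Members.nd_cs : (M.cs ++ [M.ψ, M.ψ']).Nodup :=
  (List.nodup_append.mp (List.nodup_append.mp (List.nodup_cons.mp M.nd).2).1).2.1

theorem Members.ne_triv {χ : IrrCharacter G}
    (h : χ ∈ [M.a, M.b, M.c, M.d] ++ (M.cs ++ [M.ψ, M.ψ']) ++ M.ms) : χ ≠ Blocks.trivIrr G :=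
  fun e => (List.nodup_cons.mp M.nd).1 (e ▸ h)

theorem Members.mem_xl23 {χ : IrrCharacter G} (h : χ ∈ M.cs) : χ ∈ M.B23.xl :=
  M.xl23.symm.subset (by simp [h])

theorem Members.hx23 : ∀ φ ∈ M.B23.xl, M.B23.σ φ * (deg φ : ℤ) ∈ E3.xs23 := fun φ hφ => by
  have := M.xl23.subset hφ
  simp only [List.mem_cons] at this
  rcases this with rfl | h
  · rw [M.sc.2.1, M.sc.2.2]; decide
  · exact M.mem23 φ h

theorem Members.smallAt {v : G} (hv : v ∈ (M.B23.T.P : Subgroup G)) (hv1 : v ≠ 1) : SmallAt v :=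
  E6.smallAt M.B23 M.hx23 M.memy M.g2' M.no23 M.B11 M.res11 M.B5 M.hk5 M.B11.e_eq hv hv1

/-- A small character with non-zero residue for 23 is among the nine free members. -/
theorem Members.mem_cs {ξ : IrrCharacter G} (hne : ξ ≠ Blocks.trivIrr G)
    (hd : deg ξ = 22 ∨ deg ξ = 231 ∨ deg ξ = 252) : ξ ∈ M.cs := by
  rcases List.mem_append.mp (M.B23.mem_of_not_dvd rfl hne (by omega)) with h | h
  · have := M.xl23.subset h
    simp only [List.mem_cons] at this
    rcases this with rfl | h'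
    · have := M.sc.2.2; omega
    · exact h'
  · exfalso
    have h1 := (M.B23.yl_some M.y rfl).2.1 ξ h
    have h2 := M.memy
    simp only [E3.ys23, List.mem_cons, List.not_mem_nil, or_false] at h2
    omega

theorem Members.σ23_small {ξ : IrrCharacter G} (h : ξ ∈ M.cs) :
    (deg ξ = 22 → M.B23.σ ξ * (deg ξ : ℤ) = -22) ∧ (deg ξ = 231 → M.B23.σ ξ * (deg ξ : ℤ) = 231) ∧
      (deg ξ = 252 → M.B23.σ ξ * (deg ξ : ℤ) = -252) := by
  have hx := M.mem23 ξ h
  simp only [E3.xs23, List.mem_cons, List.not_mem_nil, or_false] at hx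
  refine ⟨fun e => ?_, fun e => ?_, fun e => ?_⟩ <;> rw [e] at hx ⊢ <;>
    rcases M.B23.σ_unit (M.mem_xl23 h) with u | u <;> rw [u] at hx ⊢ <;> omega

/-- The member of degree 22. -/
theorem Members.kind22 (h : deg M.cm = 22) :
    M.B7.σ M.cm = 1 ∧ M.B23.σ M.cm = -1 ∧ ∀ χ ∈ M.B7.xl, deg χ = 22 → χ = M.cm := by
  rcases M.kind with ⟨h1, h2, h3⟩ | ⟨h1, -⟩
  · refine ⟨h2, ?_, h3⟩
    rw [h] at h1
    omega
  · rw [h] at h1
    rcases M.B23.σ_unit (M.mem_xl23 M.cm_cs) with u | u <;> rw [u] at h1 <;> omega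

theorem Members.cm_P23 (h : deg M.cm = 22) {v : G} (hv : v ∈ (M.B23.T.P : Subgroup G)) (hv1 : v ≠ 1) :
    (M.cm : G → ℂ) v = -1 ∧ (M.cm : G → ℂ) (v * v) = -1 := by
  have h2 : v * v ≠ 1 := fun e => by
    have h1 := orderOf_of_mem M.B23.T.card_P hv hv1
    have := orderOf_dvd_of_pow_eq_one (x := v) (n := 2) (by rw [pow_two, e])
    rw [h1] at this
    norm_num at this
  rw [M.B23.value_P (M.mem_xl23 M.cm_cs) hv hv1, M.B23.value_P (M.mem_xl23 M.cm_cs) (mul_mem hv hv) h2,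
    (M.kind22 h).2.1]
  norm_num

/-- **The alternating square of the 22.** -/
theorem Members.alt22 (h : deg M.cm = 22) :
    ∃ ξ ∈ M.cs, deg ξ = 231 ∧ M.B23.σ ξ * (deg ξ : ℤ) = 231 ∧ ∀ g, (ξ : G → ℂ) g =
      ((M.cm : G → ℂ) g * (M.cm : G → ℂ) g - (M.cm : G → ℂ) (g * g)) / 2 := by
  obtain ⟨v, hv, hv1⟩ := M12Order.exists_ne_one_P M.B23.T
  obtain ⟨v1, v2⟩ := M.cm_P23 h hv hv1
  obtain ⟨ξ, hd, hval⟩ := exists_alt_of_inner h
    (inner_alt_zero M.cm fun hr => indicator_eq_one M.B7 (by norm_num) M.cm7 (M.kind22 h).1 hr)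
    v1 v2 (M.smallAt hv hv1)
  have hne : ξ ≠ Blocks.trivIrr G := fun e => by rw [e, deg_triv] at hd; norm_num at hd
  have hm := M.mem_cs hne (Or.inr (Or.inl hd))
  exact ⟨ξ, hm, hd, (M.σ23_small hm).2.1 hd, hval⟩

/-- **The symmetric square of the 22**, if it is the only one and there is no 252. -/
theorem Members.sym22 (h : deg M.cm = 22) (huniq : ∀ φ ∈ M.cs, deg φ = 22 → φ = M.cm)
    (h252 : ∀ φ ∈ M.cs, deg φ ≠ 252) :
    ∃ η ∈ M.ms, deg η = 230 ∧ M.B11.σ η * (deg η : ℤ) = -230 ∧ ∀ g, (η : G → ℂ) g =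
      ((M.cm : G → ℂ) g * (M.cm : G → ℂ) g + (M.cm : G → ℂ) (g * g)) / 2 - 1 - (M.cm : G → ℂ) g := by
  have hreal : ∀ g, ((M.cm : G → ℂ) g).im = 0 := by
    obtain ⟨cj, hcj⟩ : ∃ cj : IrrCharacter G, ∀ g, (cj : G → ℂ) g = conj ((M.cm : G → ℂ) g) :=
      ⟨⟨_, Char.isIrrCharacter_conj M.cm.2⟩, fun g => rfl⟩
    have hd : deg cj = 22 := by
      have e := hcj 1
      rw [value_one', value_one', h, map_natCast, Nat.cast_inj] at e
      exact e
    have he : cj = M.cm :=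
      huniq cj (M.mem_cs (fun e => by rw [e, deg_triv] at hd; norm_num at hd) (Or.inl hd)) hd
    intro g
    have e := hcj g
    rw [he] at e
    exact Complex.conj_eq_iff_im.mp e.symm
  obtain ⟨v, hv, hv1⟩ := M12Order.exists_ne_one_P M.B23.T
  obtain ⟨v1, v2⟩ := M.cm_P23 h hv hv1
  have hν := indicator_eq_one M.B7 (by norm_num) M.cm7 (M.kind22 h).1 hreal
  rcases exists_sym h hreal hν v1 v2 (M.smallAt hv hv1) with ⟨ξ, hd, -⟩ | ⟨ξ, η, hd, hd', hval⟩
  · exact absurd hd (h252 ξ (M.mem_cs (fun e => by rw [e, deg_triv] at hd; norm_num at hd) (Or.inr (Or.inr hd))))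
  have hξ : ξ = M.cm := huniq ξ (M.mem_cs (fun e => by rw [e, deg_triv] at hd; norm_num at hd) (Or.inl hd)) hd
  subst hξ
  have hne : η ≠ Blocks.trivIrr G := fun e => by rw [e, deg_triv] at hd'; norm_num at hd'
  have h11 : η ∈ M.B11.xl := by
    have := M.B11.mem_of_not_dvd rfl hne (by rw [hd']; norm_num)
    rwa [M.B11.yl_none rfl, List.append_nil] at this
  have hms : η ∈ M.ms := by
    have := M.xl11.subset h11
    simp only [List.mem_cons, List.mem_append, List.mem_filter] at this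
    rcases this with e | ⟨hm, -⟩ | hm
    · rw [e, M.sd.2.2] at hd'; norm_num at hd'
    · exfalso
      refine M.B23.not_dvd η ?_ (by rw [hd']; norm_num)
      rw [M.yl23]
      rcases hm with hm | hm
      · exact List.mem_append_left _ (M.mem_xl23 hm)
      · exact List.mem_append_right _ (by simpa using hm)
    · exact hm
  refine ⟨η, hms, hd', ?_, fun g => ?_⟩
  · rw [M.σ11 h11, hd']
    decide
  · rw [eq_sub_iff_add_eq, add_comm, hval]

end CfsgLib.M24Order.E6
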