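import Cfsg.Agent.Lib.M24Order.E6.Setup
import Cfsg.Agent.Lib.M24Order.E6.Seven
import Cfsg.Agent.Lib.M24Order.E6.Link
import Cfsg.Agent.Lib.M24Order.E6.Bridge
import Cfsg.Agent.Lib.M24Order.Kill4

/-!
# Simple groups of order 244823040, `|N(P₇) : C(P₇)| = 6`: the sums over the members at one element
-/

set_option autoImplicit false
set_option linter.unusedSectionVars false
set_option linter.style.haveILetI false

namespace CfsgLib.M24Order.E6

open Cfsg
open scoped ComplexConjugate CfsgLib.Char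
open CfsgLib CfsgLib.BrauerTuan CfsgLib.OrderBlocks CfsgLib.M24Order
open scoped _root_.Classical

universe u

variable {G : Type u} [Group G] [Fintype G] [IsSimpleGroup G]
  [Fact (Nat.Prime 5)] [Fact (Nat.Prime 7)] [Fact (Nat.Prime 11)] [Fact (Nat.Prime 23)] {k5 k7 : ℕ}
  (M : Members G k5 k7)

/-- The entry of a member of the block for `23`. -/
noncomputable def Members.ent (χ : IrrCharacter G) : E3.Ent :=
  if χ = M.ψ then (-M.y, 2) else (M.B23.σ χ * (deg χ : ℤ), 1)

/-- The signed degree of a further member of the block for `11`. -/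
noncomputable def Members.x11 (χ : IrrCharacter G) : ℤ := M.B11.σ χ * (deg χ : ℤ)

/-- The member of degree 231 tied to the 22. -/
noncomputable def Members.alt : IrrCharacter G :=
  if h : deg M.cm = 22 then (M.alt22 h).choose else M.cm

/-- The tag. -/
noncomputable def Members.tag (χ : IrrCharacter G) : ℕ :=
  if χ = M.cm then (if deg M.cm = 22 then 1 else 3) else if χ = M.alt then 2 else 0

/-- The tagged entry. -/
noncomputable def Members.tent (χ : IrrCharacter G) : TEnt := (M.ent χ, M.tag χ)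

/-- The case. -/
noncomputable def Members.com : ℕ := if deg M.cm = 22 then 22 else 3520

/-- The free members and one exceptional member, in some order. -/
def Members.Adm (rs : List (IrrCharacter G)) : Prop := rs.Perm (M.cs ++ [M.ψ])

variable {M}

theorem Members.alt_spec (h : deg M.cm = 22) :
    M.alt ∈ M.cs ∧ deg M.alt = 231 ∧ M.B23.σ M.alt * (deg M.alt : ℤ) = 231 ∧ ∀ g, (M.alt : G → ℂ) g =
      ((M.cm : G → ℂ) g * (M.cm : G → ℂ) g - (M.cm : G → ℂ) (g * g)) / 2 := by
  rw [Members.alt, dif_pos h]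
  exact (M.alt22 h).choose_spec

theorem Members.ψ_not_cs : M.ψ ∉ M.cs :=
  fun hm => (List.nodup_append.mp M.nd_cs).2.2 _ hm M.ψ (by simp) rfl

theorem Members.ψ_deg : deg M.ψ = M.y.natAbs :=
  (M.B23.yl_some M.y rfl).2.1 _ (M.yl23 ▸ by simp)

theorem Members.ψ'_deg : deg M.ψ' = deg M.ψ :=
  ((M.B23.yl_some M.y rfl).2.1 _ (M.yl23 ▸ by simp)).trans M.ψ_deg.symm

theorem Members.y_ne : M.y ≠ 0 := by
  have h := M.memy
  simp only [E3.ys23, List.mem_cons, List.not_mem_nil, or_false] at h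
  omega

theorem Members.ent_ψ : M.ent M.ψ = (-M.y, 2) := if_pos rfl

theorem Members.ent_cs {χ : IrrCharacter G} (h : χ ∈ M.cs) : M.ent χ = (M.B23.σ χ * (deg χ : ℤ), 1) :=
  if_neg fun (e : χ = M.ψ) => M.ψ_not_cs (e ▸ h)

theorem Members.adm_mem {rs : List (IrrCharacter G)} (hr : M.Adm rs) {χ : IrrCharacter G} (h : χ ∈ rs) :
    χ ∈ M.cs ∨ χ = M.ψ := by
  have := List.Perm.subset hr h
  simpa using this

theorem Members.adm_ne_triv {rs : List (IrrCharacter G)} (hr : M.Adm rs) {χ : IrrCharacter G} (h : χ ∈ rs) :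
    χ ≠ Blocks.trivIrr G := by
  refine M.ne_triv ?_
  rcases M.adm_mem hr h with h' | rfl
  · exact List.mem_append_left _ (List.mem_append_right _ (List.mem_append_left _ h'))
  · exact List.mem_append_left _ (List.mem_append_right _ (List.mem_append_right _ List.mem_cons_self))

theorem Members.ms_ne_triv {χ : IrrCharacter G} (h : χ ∈ M.ms) : χ ≠ Blocks.trivIrr G :=
  M.ne_triv (List.mem_append_right _ h)

theorem Members.ent_deg {rs : List (IrrCharacter G)} (hr : M.Adm rs) {χ : IrrCharacter G} (h : χ ∈ rs) :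
    (M.ent χ).1.natAbs = deg χ ∧ 0 < (M.ent χ).2 := by
  rcases M.adm_mem hr h with h' | rfl
  · rw [M.ent_cs h']
    exact ⟨(M.B23.sgn_eq (M.mem_xl23 h')).2, Nat.one_pos⟩
  · rw [M.ent_ψ, M.ψ_deg]
    exact ⟨Int.natAbs_neg _, by norm_num⟩

theorem Members.ents_tent (rs : List (IrrCharacter G)) : ents (rs.map M.tent) = rs.map M.ent :=
  ents_map M.tent rs

theorem Members.lcm_pos {rs : List (IrrCharacter G)} (hr : M.Adm rs) : 0 < E3.lcmEs (rs.map M.ent) := by
  refine E3.lcmEs_pos fun e he => ?_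
  obtain ⟨χ, hχ, rfl⟩ := List.mem_map.mp he
  rw [(M.ent_deg hr hχ).1]
  exact deg_pos χ

/-- A sum over all members, from the entries. -/
theorem Members.sum_ext {rs : List (IrrCharacter G)} (hr : M.Adm rs) (F : IrrCharacter G → ℤ)
    (hF : F M.ψ' = F M.ψ) :
    ((M.cs ++ [M.ψ, M.ψ']).map F).sum = (rs.map fun χ => ((M.ent χ).2 : ℤ) * F χ).sum := by
  rw [(List.Perm.map _ hr).sum_eq, List.map_append, List.map_append, List.sum_append, List.sum_append,
    List.map_congr_left (l := M.cs) (g := fun χ => ((M.ent χ).2 : ℤ) * F χ) fun χ hχ => by rw [M.ent_cs hχ]; simp]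
  simp only [List.map_cons, List.map_nil, List.sum_cons, List.sum_nil, M.ent_ψ, hF]
  push_cast
  ring

variable (M)

/-- An element with integer values and of order prime to `23`. -/
structure IntAt (g : G) : Prop where
  int : ∀ χ : IrrCharacter G, (χ : G → ℂ) g = iv χ g
  h23 : ¬ 23 ∣ orderOf g

theorem intAt_invol {g : G} (hg : orderOf g = 2) : IntAt g :=
  ⟨fun χ => iv_spec χ (mul_self_of_order_two hg), by rw [hg]; norm_num⟩

theorem intAt_one : IntAt (1 : G) :=
  ⟨fun χ => by rw [iv_one, value_one']; push_cast; rfl, by simp⟩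

/-- The values of the members of the block for 5. -/
noncomputable def Members.tup (g : G) : T5 := ⟨iv M.a g, iv M.b g, iv M.c g, iv M.d g⟩

variable {M} {g h : G}

theorem Members.relψ (hg : IntAt g) : iv M.ψ' g = iv M.ψ g := by
  obtain ⟨-, r2⟩ := M.B23.rel_iv hg.h23 fun χ _ => hg.int χ
  rw [r2 M.y rfl M.ψ' (M.yl23 ▸ by simp), r2 M.y rfl M.ψ (M.yl23 ▸ by simp)]

theorem Members.rel5 (hg : ¬ 5 ∣ orderOf g) (hint : ∀ χ : IrrCharacter G, (χ : G → ℂ) g = iv χ g) :
    iv M.d g = -1 - iv M.a g + iv M.b g + iv M.c g := by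
  obtain ⟨r1, -⟩ := M.B5.rel_iv hg fun χ _ => hint χ
  have h := r1 rfl
  simp only [M.xl5, List.map_cons, List.map_nil, sigSum] at h
  norm_num [sgn] at h
  linarith

/-- The relation of the block for `23`. -/
theorem Members.rel23 {rs : List (IrrCharacter G)} (hr : M.Adm rs) (hg : IntAt g) :
    1 + iv M.c g + (rs.map fun χ => sgn (M.ent χ).1 * iv χ g).sum = 0 := by
  obtain ⟨-, r2⟩ := M.B23.rel_iv hg.h23 fun χ _ => hg.int χ
  have h := r2 M.y rfl M.ψ (M.yl23 ▸ by simp)
  simp only [yVal] at h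
  rw [congrArg (fun l => sigSum l (M.B23.xl.map (iv · g))) M.B23.xs_eq, sigSum_map,
    List.map_congr_left (g := fun χ => M.B23.σ χ * iv χ g) fun χ hχ => by rw [(M.B23.sgn_eq hχ).1],
    (M.xl23.map _).sum_eq] at h
  simp only [List.map_cons, List.sum_cons, M.sc.2.1, one_mul] at h
  rw [(List.Perm.map _ hr).sum_eq, List.map_append, List.sum_append,
    List.map_congr_left (l := M.cs) (g := fun χ => M.B23.σ χ * iv χ g) fun χ hχ => by
      rw [M.ent_cs hχ, (M.B23.sgn_eq (M.mem_xl23 hχ)).1]]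
  simp only [List.map_cons, List.map_nil, List.sum_cons, List.sum_nil, M.ent_ψ, add_zero]
  have hy : sgn (-M.y) = -sgn M.y := by
    have := M.y_ne
    unfold sgn
    split_ifs <;> omega
  rw [hy]
  have h2 := congrArg (sgn M.y * ·) h
  simp only [← mul_assoc, (sgn_mul_self M.y).1, one_mul] at h2
  linarith

/-- Class multiplication at `P₂₃`. -/
theorem Members.count23 {rs : List (IrrCharacter G)} (hr : M.Adm rs) (hg : IntAt g) (hh : IntAt h) {L : ℕ}
    (hL : L = E3.lcmEs (rs.map M.ent)) {v : G} (hv : v ∈ (M.B23.T.P : Subgroup G)) (hv1 : v ≠ 1) :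
    244823040 * ((L : ℤ) + iv M.c g * iv M.c h * ((L : ℤ) / 5544) +
        (rs.map fun χ => (L : ℤ) / (M.ent χ).1 * (iv χ g * iv χ h)).sum) =
      (Nat.card {pr : G × G // IsConj g pr.1 ∧ IsConj h pr.2 ∧ pr.1 * pr.2 = v} : ℤ) *
        ((cC g : ℤ) * (cC h : ℤ)) * (L : ℤ) := by
  obtain ⟨d1, d2, -⟩ := E3.dvd_lcmEs (es := rs.map M.ent)
  rw [← hL] at d1 d2
  have hLr : ∀ χ ∈ rs, (deg χ : ℤ) ∣ (L : ℤ) := fun χ hχ =>
    (M.ent_deg hr hχ).1 ▸ d1 _ (List.mem_map.mpr ⟨χ, hχ, rfl⟩)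
  have hLx : ∀ χ ∈ M.B23.xl, (deg χ : ℤ) ∣ (L : ℤ) := fun χ hχ => by
    have := M.xl23.subset hχ
    simp only [List.mem_cons] at this
    rcases this with rfl | h'
    · rw [M.sc.2.2]; exact d2
    · exact hLr χ (hr.symm.subset (List.mem_append_left _ h'))
  have hLy : ∀ y', (⟨23, 1, 11, M.xs23', some M.y⟩ : Opt).y = some y' → y' ∣ (L : ℤ) := fun y' e => by
    simp only [Option.some.injEq] at e
    subst e
    refine Int.natAbs_dvd.mp ?_
    rw [← M.ψ_deg]
    exact hLr _ (hr.symm.subset (by simp))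
  have hc := E3.count_one M.B23 rfl (g := g) (h := h) hv hv1 (fun χ => iv χ g) (fun χ => iv χ h) (iv M.ψ g) (iv M.ψ h)
    (fun χ _ => hg.int χ) (fun χ _ => hh.int χ)
    (fun ψ hψ => by
      rw [M.yl23] at hψ
      simp only [List.mem_cons, List.not_mem_nil, or_false] at hψ
      rcases hψ with rfl | rfl
      · exact hg.int _
      · rw [← M.relψ hg]; exact hg.int _)
    (fun ψ hψ => by
      rw [M.yl23] at hψ
      simp only [List.mem_cons, List.not_mem_nil, or_false] at hψ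
      rcases hψ with rfl | rfl
      · exact hh.int _
      · rw [← M.relψ hh]; exact hh.int _)
    hLx hLy
  refine Eq.trans (congrArg (fun X : ℤ => (244823040 : ℤ) * X) ?_) (by exact_mod_cast hc)
  rw [E3.blockSum, (M.xl23.map _).sum_eq, (List.Perm.map _ hr).sum_eq, List.map_append, List.sum_append,
    List.map_congr_left (l := M.cs) (g := fun χ => (L : ℤ) / (M.B23.σ χ * (deg χ : ℤ)) * (iv χ g * iv χ h))
      fun χ hχ => by rw [M.ent_cs hχ]]
  simp only [List.map_cons, List.map_nil, List.sum_cons, List.sum_nil, M.ent_ψ, M.sc.2.1, M.sc.2.2, one_mul,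
    Nat.cast_ofNat]
  ring

theorem Members.mem_fixed {χ : IrrCharacter G}
    (h : χ ∈ (M.cs ++ [M.ψ, M.ψ']).filter fun φ => decide (E3.delta (deg φ) ≠ 0)) : χ ∈ M.B11.xl :=
  M.xl11.symm.subset (by simp only [List.mem_cons, List.mem_append]; exact Or.inr (Or.inl h))

theorem Members.mem_ms {χ : IrrCharacter G} (h : χ ∈ M.ms) : χ ∈ M.B11.xl :=
  M.xl11.symm.subset (by simp only [List.mem_cons, List.mem_append]; exact Or.inr (Or.inr h))

theorem Members.x11_deg {χ : IrrCharacter G} (h : χ ∈ M.ms) : (M.x11 χ).natAbs = deg χ :=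
  (M.B11.sgn_eq (M.mem_ms h)).2

/-- A weighted sum over the members of the block for `11`. -/
theorem Members.sum11 {rs : List (IrrCharacter G)} (hr : M.Adm rs) (F : IrrCharacter G → ℤ)
    (hF : F M.ψ' = F M.ψ) :
    (M.B11.xl.map fun χ => M.B11.σ χ * F χ).sum = -F M.d +
      (rs.map fun χ => ((M.ent χ).2 : ℤ) * E3.delta (M.ent χ).1.natAbs * F χ).sum +
      (M.ms.map fun χ => sgn (M.x11 χ) * F χ).sum := by
  rw [(M.xl11.map _).sum_eq]
  simp only [List.map_cons, List.sum_cons, List.map_append, List.sum_append, M.sd.2.1]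
  rw [List.map_congr_left (l := M.ms) (f := fun χ => sgn (M.x11 χ) * F χ) (g := fun χ => M.B11.σ χ * F χ)
      (fun χ hχ => by simp only [Members.x11]; rw [(M.B11.sgn_eq (M.mem_ms hχ)).1]),
    List.map_congr_left (g := fun χ => E3.delta (deg χ) * F χ) (fun χ hχ => by rw [M.σ11 (M.mem_fixed hχ)]),
    E3.sum_filter_mul (fun χ => E3.delta (deg χ)) F, M.sum_ext hr _ (by rw [hF, M.ψ'_deg]),
    List.map_congr_left (l := rs) (g := fun χ => ((M.ent χ).2 : ℤ) * E3.delta (M.ent χ).1.natAbs * F χ)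
      (fun χ hχ => by rw [(M.ent_deg hr hχ).1, mul_assoc])]
  ring

/-- The relation of the block for `11`. -/
theorem Members.rel11 {rs : List (IrrCharacter G)} (hr : M.Adm rs) (hg : IntAt g) (h11 : ¬ 11 ∣ orderOf g) :
    1 - iv M.d g + (rs.map fun χ => ((M.ent χ).2 : ℤ) * E3.delta (M.ent χ).1.natAbs * iv χ g).sum +
      (M.ms.map fun χ => sgn (M.x11 χ) * iv χ g).sum = 0 := by
  obtain ⟨r1, -⟩ := M.B11.rel_iv h11 fun χ _ => hg.int χ
  have h := r1 rfl
  rw [congrArg (fun l => sigSum l (M.B11.xl.map (iv · g))) M.B11.xs_eq, sigSum_map,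
    List.map_congr_left (g := fun χ => M.B11.σ χ * iv χ g) fun χ hχ => by rw [(M.B11.sgn_eq hχ).1],
    M.sum11 hr (fun χ => iv χ g) (M.relψ hg)] at h
  linarith

/-- Class multiplication at `P₁₁`. -/
theorem Members.count11 {rs : List (IrrCharacter G)} (hr : M.Adm rs) (hg : IntAt g) (hh : IntAt h) {L : ℕ}
    (hLr : ∀ χ ∈ rs, deg χ ∣ L) (hLd : 5796 ∣ L) (hLm : ∀ χ ∈ M.ms, deg χ ∣ L) {v : G}
    (hv : v ∈ (M.B11.T.P : Subgroup G)) (hv1 : v ≠ 1) :
    244823040 * ((L : ℤ) - iv M.d g * iv M.d h * ((L : ℤ) / 5796) +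
        (rs.map fun χ => ((M.ent χ).2 : ℤ) * E3.delta (M.ent χ).1.natAbs * (iv χ g * iv χ h) *
          ((L / (M.ent χ).1.natAbs : ℕ) : ℤ)).sum) +
      244823040 * (M.ms.map fun χ => (L : ℤ) / M.x11 χ * (iv χ g * iv χ h)).sum =
      (Nat.card {pr : G × G // IsConj g pr.1 ∧ IsConj h pr.2 ∧ pr.1 * pr.2 = v} : ℤ) *
        ((cC g : ℤ) * (cC h : ℤ)) * (L : ℤ) := by
  have hLx : ∀ χ ∈ M.B11.xl, (deg χ : ℤ) ∣ (L : ℤ) := fun χ hχ => by
    refine Int.natCast_dvd_natCast.mpr ?_
    have := M.xl11.subset hχ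
    simp only [List.mem_cons, List.mem_append, List.mem_filter] at this
    rcases this with rfl | ⟨(h' | h' | h' | h'), -⟩ | h'
    · rw [M.sd.2.2]; exact hLd
    · exact hLr χ (hr.symm.subset (List.mem_append_left _ h'))
    · subst h'; exact hLr _ (hr.symm.subset (by simp))
    · subst h'; rw [M.ψ'_deg]; exact hLr _ (hr.symm.subset (by simp))
    · exact absurd h' List.not_mem_nil
    · exact hLm χ h'
  have hc := E3.count_one M.B11 rfl (g := g) (h := h) hv hv1 (fun χ => iv χ g) (fun χ => iv χ h) 0 0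
    (fun χ _ => hg.int χ) (fun χ _ => hh.int χ)
    (fun ψ hψ => by rw [M.B11.yl_none rfl] at hψ; simp at hψ)
    (fun ψ hψ => by rw [M.B11.yl_none rfl] at hψ; simp at hψ)
    hLx (fun y e => by simp at e)
  refine Eq.trans ?_ (by exact_mod_cast hc)
  rw [← mul_add]
  refine congrArg (fun X : ℤ => (244823040 : ℤ) * X) ?_
  obtain ⟨F, hF⟩ : ∃ F : IrrCharacter G → ℤ, F = fun χ => ((L / deg χ : ℕ) : ℤ) * (iv χ g * iv χ h) := ⟨_, rfl⟩
  have key : ∀ χ ∈ M.B11.xl, (L : ℤ) / (M.B11.σ χ * (deg χ : ℤ)) * (iv χ g * iv χ h) = M.B11.σ χ * F χ := by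
    intro χ hχ
    have hd : ((L / deg χ : ℕ) : ℤ) = (L : ℤ) / (deg χ : ℤ) := Int.natCast_ediv L (deg χ)
    rw [hF]
    simp only [hd]
    rcases M.B11.σ_unit hχ with e | e <;> rw [e]
    · rw [one_mul, one_mul]
    · rw [neg_one_mul, Int.ediv_neg]; ring
  rw [E3.blockSum, List.map_congr_left key, M.sum11 hr F (by rw [hF]; simp only [M.ψ'_deg, M.relψ hg, M.relψ hh]),
    List.map_congr_left (l := M.ms) (f := fun χ => (L : ℤ) / M.x11 χ * (iv χ g * iv χ h))
      (g := fun χ => sgn (M.x11 χ) * F χ) (fun χ hχ => by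
        simp only [Members.x11]
        rw [key χ (M.mem_ms hχ), (M.B11.sgn_eq (M.mem_ms hχ)).1]),
    List.map_congr_left (l := rs) (g := fun χ => ((M.ent χ).2 : ℤ) * E3.delta (M.ent χ).1.natAbs * F χ)
      (fun χ hχ => by rw [hF]; simp only [(M.ent_deg hr hχ).1]; ring)]
  simp only [hF, M.sd.2.2, Int.natCast_ediv, Nat.cast_ofNat]
  ring

/-- The squares of the values. -/
theorem Members.sq_bound {rs : List (IrrCharacter G)} (hr : M.Adm rs) (hg : IntAt g) :
    (M.tup g).sq + (rs.map fun χ => ((M.ent χ).2 : ℤ) * (iv χ g * iv χ g)).sum +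
      (M.ms.map fun χ => iv χ g * iv χ g).sum ≤ (cC g : ℤ) := by
  have h := sum_sq_le M.nd (g := g) fun χ _ => hg.int χ
  rw [List.map_cons, List.sum_cons, iv_triv, List.map_append, List.sum_append, List.map_append, List.sum_append,
    M.sum_ext hr (fun χ => iv χ g * iv χ g) (by rw [M.relψ hg])] at h
  simp only [List.map_cons, List.map_nil, List.sum_cons, List.sum_nil] at h
  simp only [T5.sq, Members.tup]
  linarith

end CfsgLib.M24Order.E6
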