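import Cfsg.Agent.Lib.M24Order.E6.Vals
import Cfsg.Agent.Lib.M24Order.Dfs6

/-!
# Simple groups of order 244823040, `|N(P₇) : C(P₇)| = 6`: soundness of the searches in the columns
-/

set_option autoImplicit false
set_option linter.unusedSectionVars false
set_option linter.style.haveILetI false

namespace CfsgLib.M24Order.E6

open Cfsg
open scoped ComplexConjugate CfsgLib.Char
open CfsgLib CfsgLib.BrauerTuan CfsgLib.OrderBlocks CfsgLib.M24Order
open scoped _root_.Classical

universe u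

theorem mem_nub {a : ℤ} : ∀ {l : List ℤ}, a ∈ l → a ∈ nub l
  | b :: l, h => by
    simp only [nub]
    rcases List.mem_cons.mp h with rfl | h
    · by_cases hc : l.contains a = true
      · rw [if_pos hc]; exact mem_nub (List.contains_iff_mem.mp hc)
      · rw [if_neg hc]; exact List.mem_cons_self
    · by_cases hc : l.contains b = true
      · rw [if_pos hc]; exact mem_nub h
      · rw [if_neg hc]; exact List.mem_cons_of_mem _ (mem_nub h)

theorem sqv_map {α : Type*} (f : α → TEnt) (A : α → ℤ) : ∀ l : List α,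
    sqv (l.map f) (l.map A) = (l.map fun a => ((f a).1.2 : ℤ) * (A a * A a)).sum
  | [] => rfl
  | a :: l => by simp only [List.map_cons, sqv, List.sum_cons, sqv_map f A l]

theorem le_maxR {C : ℕ} {p : ℕ × T5} : ∀ {rows : List (ℕ × T5)}, p ∈ rows →
    ((C : ℤ) - p.2.sq).toNat ≤ maxR C p.2.c rows
  | q :: rows, h => by
    simp only [maxR]
    rcases List.mem_cons.mp h with rfl | h
    · rw [if_pos rfl]; exact Nat.le_max_left _ _
    · split_ifs
      · exact (le_maxR h).trans (Nat.le_max_right _ _)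
      · exact le_maxR h

variable {G : Type u} [Group G] [Fintype G] [IsSimpleGroup G]
  [Fact (Nat.Prime 5)] [Fact (Nat.Prime 7)] [Fact (Nat.Prime 11)] [Fact (Nat.Prime 23)] {k5 k7 : ℕ}
  {M : Members G k5 k7} {rs : List (IrrCharacter G)} {g h w : G}

theorem Members.lcmT_tent (rs : List (IrrCharacter G)) : lcmT (rs.map M.tent) = E3.lcmEs (rs.map M.ent) := by
  rw [lcmT, M.ents_tent]

theorem Members.comNum_eq (M : Members G k5 k7) : comNum M.com = 1 := by
  rcases M.cm_deg with ⟨-, e, -⟩ | ⟨-, e, -⟩ <;> rw [e] <;> rfl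

theorem Members.k7_mem (M : Members G k5 k7) : k7 ∈ k7s M.com := by
  rcases M.hk7 with ⟨e, h⟩ | ⟨e, h⟩
  · rw [Members.com, if_pos e]; exact h
  · rw [Members.com, if_neg (by rw [e]; norm_num)]; exact h

/-- The squares of the degrees. -/
theorem Members.sq_one (hr : M.Adm rs) :
    (rs.map fun χ => ((M.ent χ).2 : ℤ) * ((M.ent χ).1 * (M.ent χ).1)).sum +
      (M.ms.map fun χ => M.x11 χ * M.x11 χ).sum ≤ budget := by
  have h := M.sq_bound hr intAt_one
  simp only [T5.sq, Members.tup, iv_one, cC_one M.card_G, M.sa.2, M.sb.2.2.2, M.sc.2.2, M.sd.2.2] at h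
  rw [List.map_congr_left (l := rs) (g := fun χ => ((M.ent χ).2 : ℤ) * ((deg χ : ℤ) * (deg χ : ℤ))) fun χ hχ => by
      rw [← (M.ent_deg hr hχ).1, Int.natAbs_mul_self'],
    List.map_congr_left (l := M.ms) (g := fun χ => (deg χ : ℤ) * (deg χ : ℤ)) fun χ hχ => by
      rw [← M.x11_deg hχ, Int.natAbs_mul_self']]
  simp only [budget]
  push_cast at h ⊢
  linarith

/-- The values of the members of the block for 5 are in the table. -/
theorem Members.tup_mem (hg : orderOf g = 2) {spec : Bool}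
    (hs : spec = true → g ∈ Subgroup.normalizer ((M.B11.T.P : Subgroup G) : Set G)) {m : ℕ}
    (hC : cC g ∈ E3.centsP m) {tab : List (ℕ × T5)} (hT : checkTups k5 spec m tab = true) :
    (cC g, M.tup g) ∈ tab := by
  have hI := intAt_invol hg
  have hgg := mul_self_of_order_two hg
  have h5s : ∀ χ ∈ M.B5.xl, cC g % 5 = 0 → (iv χ g - M.B5.σ χ) % 5 = 0 := fun χ hχ h5 => by
    obtain ⟨-, z', hz', hzC, -, hiv⟩ := exists_five M.B5.T hg (Nat.dvd_of_mod_eq_zero h5)
    rw [← hiv]
    exact Int.emod_eq_zero_of_dvd (M.B5.dvd_sub (by norm_num) hz' hzC hχ)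
  have h56 : ∀ χ ∈ M.B5.xl, iv χ g ∈ opts56 (cC g) spec (deg χ) (M.B5.σ χ) := fun χ hχ => by
    refine List.mem_filter.mpr ⟨M.mem_opts (M.B5.ne_triv (List.mem_append_left _ hχ)) hg hs, ?_⟩
    simp only [Bool.or_eq_true, Bool.not_eq_true', decide_eq_false_iff_not, decide_eq_true_eq]
    by_cases h5 : cC g % 5 = 0
    · exact Or.inr (h5s χ hχ h5)
    · exact Or.inl h5
  have hb : iv M.b g ∈ optsB (cC g) spec := by
    refine List.mem_filter.mpr ⟨List.mem_filter.mpr ⟨M.sb.2.2.2 ▸ E3.iv_mem_opts M.B11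
      (M.B5.ne_triv (List.mem_append_left _ (by rw [M.xl5]; simp))) M.res11 M.B5 hg hs, ?_⟩, ?_⟩
    · simp only [Bool.or_eq_true, Bool.not_eq_true', decide_eq_false_iff_not, decide_eq_true_eq]
      by_cases h5 : cC g % 5 = 0
      · have := h5s M.b (by rw [M.xl5]; simp) h5
        rw [M.sb.1] at this
        exact Or.inr this
      · exact Or.inl h5
    · simp only [Bool.or_eq_true, Bool.not_eq_true', decide_eq_false_iff_not, decide_eq_true_eq]
      by_cases h7 : cC g % 7 = 0
      · have := Int.emod_eq_zero_of_dvd (seven_sub M.B7 hg (Nat.dvd_of_mod_eq_zero h7) M.sb.2.1)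
        rw [M.sb.2.2.1] at this
        right; omega
      · exact Or.inl h7
  have ha := h56 M.a (by rw [M.xl5]; simp)
  have hc := h56 M.c (by rw [M.xl5]; simp)
  have hd := h56 M.d (by rw [M.xl5]; simp)
  rw [M.sa.1, M.sa.2] at ha
  rw [M.sc.1, M.sc.2.2] at hc
  rw [M.sd.1, M.sd.2.2] at hd
  have h5 := M.rel5 (by rw [hg]; norm_num) hI.int
  have hsq := M.sq_bound (rs := M.cs ++ [M.ψ]) (List.Perm.refl _) hI
  have n1 := E3.sum_sq_nonneg' (fun χ => iv χ g) M.ms
  have n2 : 0 ≤ ((M.cs ++ [M.ψ]).map fun χ => ((M.ent χ).2 : ℤ) * (iv χ g * iv χ g)).sum :=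
    List.sum_nonneg fun z hz => by
      obtain ⟨a, -, rfl⟩ := List.mem_map.mp hz
      exact mul_nonneg (Int.natCast_nonneg _) (mul_self_nonneg _)
  have hsq5 : (M.tup g).sq ≤ (cC g : ℤ) := by linarith
  obtain ⟨v, hv, hv1⟩ := M12Order.exists_ne_one_P M.B5.T
  obtain ⟨q, -, hq⟩ := count_square M.B5 (by norm_num) hgg hv hv1 (fun φ => iv φ g) 0 (fun φ _ => hI.int φ)
    (fun ψ hψ => by rw [M.B5.yl_none rfl] at hψ; simp at hψ)
  simp only [M.xl5, List.map_cons, List.map_nil, tFrac, fracSum] at hq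
  obtain ⟨T, hT'⟩ : ∃ T : E3.Tup, T = ⟨iv M.a g, iv M.b g, iv M.c g, iv M.d g, 0, 0⟩ := ⟨_, rfl⟩
  have hnu : 244823040 * (k5 : ℤ) * 5 * E3.sum5 T = ((q * q * (127512 * cC g * cC g) : ℕ) : ℤ) := by
    simp only [E3.sum5, hT', show E3.lcm5 = 127512 by decide +kernel]
    push_cast at hq ⊢
    norm_num at hq ⊢
    linarith
  have hsqOK : E3.sqOK (cC g) k5 T = true := by
    have hpos : 0 < 127512 * cC g * cC g := by
      have : 0 < cC g := Nat.card_pos
      positivity
    simp only [E3.sqOK, forceI_eq, forceN_eq, show E3.lcm5 = 127512 by decide +kernel, hnu, Int.toNat_natCast,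
      Nat.mul_div_cancel _ hpos, isSq_of_sq, Bool.and_true, Bool.and_eq_true, decide_eq_true_eq]
    exact ⟨Int.natCast_nonneg _, by push_cast; exact Int.mul_emod_left _ _⟩
  have h := List.all_eq_true.mp hT _ hC
  simp only [forceL_eq, forceN_eq] at h
  have h := List.all_eq_true.mp (List.all_eq_true.mp (List.all_eq_true.mp h _ hb) _ ha) _ hc
  simp only [forceI_eq] at h
  rw [← h5, ← hT'] at h
  change (!(decide ((M.tup g).sq ≤ _) && _ && E3.sqOK _ _ T) || _) = true at h
  rw [decide_eq_true hsq5, List.contains_iff_mem.mpr hd, hsqOK] at h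
  simpa [Members.tup] using h

/-- Class multiplication at `P₂₃` for two involutions. -/
theorem Members.pair23_zero (hr : M.Adm rs) (hg : orderOf g = 2) (hh : orderOf h = 2) {L : ℕ}
    (hL : L = E3.lcmEs (rs.map M.ent)) :
    (L : ℤ) + iv M.c g * iv M.c h * ((L : ℤ) / 5544) +
      (rs.map fun χ => (L : ℤ) / (M.ent χ).1 * (iv χ g * iv χ h)).sum = 0 := by
  obtain ⟨v, hv, hv1⟩ := M12Order.exists_ne_one_P M.B23.T
  have h0 := M.count23 hr (intAt_invol hg) (intAt_invol hh) hL hv hv1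
  rw [E3.no_pairs_of_odd M.B23 (by norm_num) (show ¬ 2 ∣ 11 by norm_num) hg hh hv hv1, Nat.cast_zero, zero_mul,
    zero_mul, mul_eq_zero] at h0
  exact h0.resolve_left (by norm_num)

/-- The search in the column of an involution. -/
theorem Members.col_fin (hg : orderOf g = 2) {spec dd : Bool}
    (hs : spec = true → g ∈ Subgroup.normalizer ((M.B11.T.P : Subgroup G) : Set G))
    (hz : spec = false → 7 ∣ cC g) {tab : List (ℕ × T5)} (ht : (cC g, M.tup g) ∈ tab) (hr : M.Adm rs)
    {us : List ℤ} {ref : Option Sol}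
    (hO : (∀ χ ∈ rs, iv χ g ∈ optsI (cC g) spec (M.tent χ)) → E3.OrdFrom 0
      (vars (cC g) spec dd (E3.lcmEs (rs.map M.ent)) none (rs.map M.tent) us) (rs.map fun χ => iv χ g))
    (hu : uStart (E3.lcmEs (rs.map M.ent)) ref (M.tup g).c +
      E3.usum (vars (cC g) spec dd (E3.lcmEs (rs.map M.ent)) none (rs.map M.tent) us) (rs.map fun χ => iv χ g) = 0)
    {fin : Sol → Bool} (h : searchCol (cC g) spec dd (rs.map M.tent) tab us ref fin = true) :
    fin ⟨cC g, M.tup g, rs.map fun χ => iv χ g⟩ = true := by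
  obtain ⟨L, hL⟩ : ∃ L, L = E3.lcmEs (rs.map M.ent) := ⟨_, rfl⟩
  rw [searchCol, forceN_eq, M.lcmT_tent, ← hL] at h
  rw [← hL] at hO hu
  have hI := intAt_invol hg
  have hA : ∀ χ ∈ rs, iv χ g ∈ optsI (cC g) spec (M.tent χ) := fun χ hχ => M.mem_optsI hr hχ hg hs hz
  obtain ⟨s1, s2, s3, s4⟩ :=
    sums_vars M.tent (fun χ => iv χ g) (C := cC g) (spec := spec) (dd := dd) (L := L) none rs us
  have hrow : (cC g, M.tup g) ∈ tab.filter fun p => decide (p.1 = cC g) :=
    List.mem_filter.mpr ⟨ht, decide_eq_true rfl⟩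
  have h1 := M.sq_bound hr hI
  have h2 := E3.sum_sq_nonneg' (fun χ => iv χ g) M.ms
  have h3 := le_maxR (C := cC g) hrow
  dsimp only at h3
  have hfin := search6_sound h (s4 fun χ hχ => (M.ent_deg hr hχ).2)
    (t := seedCol (cC g) L (rs.map M.tent) (tab.filter fun p => decide (p.1 = cC g)) ref fin (M.tup g).c)
    (List.mem_map.mpr ⟨(M.tup g).c, mem_nub (List.mem_map.mpr ⟨_, hrow, rfl⟩), rfl⟩)
    (mem_vars M.tent _ none rs us hA) (by simp only [Members.tent] at s3; simp only [seedCol]; omega) (hO hA)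
    (by rw [s1]; simpa [seedCol, Members.tup, Members.tent] using M.rel23 hr hI)
    (by
      have hw := M.pair23_zero hr hg hg hL
      rw [s2]
      simp only [seedCol, Members.tup, Members.tent]
      linarith) hu
  have h4 := List.all_eq_true.mp hfin _ hrow
  have hsq : (M.tup g).sq + sqv (rs.map M.tent) (rs.map fun χ => iv χ g) ≤ (cC g : ℤ) := by
    rw [sqv_map]
    simp only [Members.tent]
    linarith
  simpa [hsq] using h4

/-- The search at an element of order 5. -/
theorem Members.col5 (hh : orderOf h = 5) (hN : h ∈ Subgroup.normalizer ((M.B11.T.P : Subgroup G) : Set G))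
    (hP : h ∉ (M.B11.T.P : Subgroup G)) (hr : M.Adm rs) {fin : List ℤ → Bool}
    (hY : searchY k5 (rs.map M.tent) fin = true) : fin (rs.map fun χ => iv χ h) = true := by
  obtain ⟨L, hL⟩ : ∃ L, L = E3.lcmEs (rs.map M.ent) := ⟨_, rfl⟩
  have hLpos : 0 < L := hL ▸ M.lcm_pos hr
  rw [searchY, forceN_eq, M.lcmT_tent, ← hL] at hY
  obtain ⟨hI, hC, va, vb, vc, vd⟩ := M.at5 hh
  have hk0 : 0 < k5 := by
    have : 0 < cC h := Nat.card_pos
    omega
  obtain ⟨h1, h2, h3, h4, h5, h6⟩ := sums_varsR M.tent (fun χ => iv χ h) (os := optsY k5) (L := L) rs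
  refine E3.search_sound hY (h6 fun χ hχ => (M.ent_deg hr hχ).2) List.mem_cons_self
    (mem_varsR M.tent _ rs fun χ hχ => M.mem_optsY hr hχ hh hN hP) ?_ (h5 0) ?_ ?_ ?_
  · have hb := M.sq_bound hr hI
    have hn := E3.sum_sq_nonneg' (fun χ => iv χ h) M.ms
    simp only [T5.sq, Members.tup, va, vb, vc, vd, hC] at hb
    simp only [Members.tent] at h4
    push_cast at hb
    simp only
    omega
  · have hrel := M.rel23 hr hI
    rw [vc] at hrel
    simp only [h1, Members.tent]
    linarith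
  · obtain ⟨v, hv, hv1⟩ := M12Order.exists_ne_one_P M.B23.T
    have hc := M.count23 hr hI hI hL hv hv1
    obtain ⟨j, hj⟩ := E3.dvd_card_pairs (g := h) (h := h) M.B23.T.card_P (M.B23.cent rfl) hv
      (E3.not_conj_P M.B23.T.card_P (by rw [hh]; norm_num) (by rw [hh]; norm_num))
    rw [hj, vc, hC] at hc
    push_cast at hc
    refine ⟨fun h0 => ?_, ?_, ?_⟩
    · have : 0 < E3.mod5 k5 L := by unfold E3.mod5; positivity
      omega
    all_goals
      simp only [h2, Members.tent]
      rw [show 244823040 * ((L : ℤ) + (L : ℤ) / 5544) +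
          244823040 * (rs.map fun χ => (L : ℤ) / (M.ent χ).1 * (iv χ h * iv χ h)).sum =
          23 * (j : ℤ) * (5 * (k5 : ℤ) * (5 * (k5 : ℤ))) * (L : ℤ) by linarith]
    · positivity
    · exact ⟨j, by simp only [E3.mod5]; push_cast; ring⟩
  · simp only [h3, add_zero]

/-- The search at an element of order 7. -/
theorem Members.col7 (hw : orderOf w = 7) (hr : M.Adm rs) {fin : List ℤ → Bool}
    (hW : searchW M.com k7 (rs.map M.tent) fin = true) : fin (rs.map fun χ => iv χ w) = true := by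
  obtain ⟨L, hL⟩ : ∃ L, L = E3.lcmEs (rs.map M.ent) := ⟨_, rfl⟩
  have hLpos : 0 < L := hL ▸ M.lcm_pos hr
  rw [searchW, forceN_eq, M.lcmT_tent, ← hL, M.comNum_eq] at hW
  obtain ⟨hI, hC, vc, -⟩ := M.at7 hw
  have hk0 : 0 < k7 := by
    have : 0 < cC w := Nat.card_pos
    omega
  obtain ⟨h1, h2, h3, h4, h5, h6⟩ := sums_varsR M.tent (fun χ => iv χ w) (os := optsW k7) (L := L) rs
  refine E3.search_sound hW (h6 fun χ hχ => (M.ent_deg hr hχ).2) List.mem_cons_self
    (mem_varsR M.tent _ rs fun χ hχ => M.mem_optsW hr hχ hw) ?_ (h5 0) ?_ ?_ ?_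
  · have hb := M.sq_bound7 hr hw
    simp only [Members.tent] at h4
    simp only
    omega
  · have hrel := M.rel23 hr hI
    rw [vc] at hrel
    simp only [h1, Members.tent]
    linarith
  · obtain ⟨v, hv, hv1⟩ := M12Order.exists_ne_one_P M.B23.T
    have hc := M.count23 hr hI hI hL hv hv1
    obtain ⟨j, hj⟩ := E3.dvd_card_pairs (g := w) (h := w) M.B23.T.card_P (M.B23.cent rfl) hv
      (E3.not_conj_P M.B23.T.card_P (by rw [hw]; norm_num) (by rw [hw]; norm_num))
    rw [hj, vc, hC] at hc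
    push_cast at hc
    refine ⟨fun h0 => ?_, ?_, ?_⟩
    · have : 0 < mod7 k7 L := by unfold mod7; positivity
      omega
    all_goals
      simp only [h2, Members.tent]
      rw [show 244823040 * (L : ℤ) +
          244823040 * (rs.map fun χ => (L : ℤ) / (M.ent χ).1 * (iv χ w * iv χ w)).sum =
          23 * (j : ℤ) * (7 * (k7 : ℤ) * (7 * (k7 : ℤ))) * (L : ℤ) by linarith]
    · positivity
    · exact ⟨j, by simp only [mod7]; push_cast; ring⟩
  · simp only [h3, add_zero]

/-- Class multiplication of two classes at `P₂₃`, as a multiple. -/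
theorem Members.fits_ok (hr : M.Adm rs) (hI : IntAt g) (hJ : IntAt h) (h1 : orderOf g ≠ 1) (h23 : orderOf g ≠ 23)
    {C D : ℕ} (hC : cC g = C) (hD : cC h = D) {L : ℕ} (hL : L = E3.lcmEs (rs.map M.ent)) {X : ℤ}
    (hX : X = (L : ℤ) + iv M.c g * iv M.c h * ((L : ℤ) / 5544) +
      (rs.map fun χ => (L : ℤ) / (M.ent χ).1 * (iv χ g * iv χ h)).sum) : fits L C D X = true := by
  obtain ⟨v, hv, hv1⟩ := M12Order.exists_ne_one_P M.B23.T
  have hc := M.count23 hr hI hJ hL hv hv1
  obtain ⟨j, hj⟩ := E3.dvd_card_pairs (g := g) (h := h) M.B23.T.card_P (M.B23.cent rfl) hv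
    (E3.not_conj_P M.B23.T.card_P h1 h23)
  rw [hj, ← hX, hC, hD] at hc
  push_cast at hc
  have hnX : 244823040 * X = (j : ℤ) * ((L : ℤ) * (C : ℤ) * (D : ℤ) * 23) := by linarith
  simp only [fits, Bool.and_eq_true, decide_eq_true_eq]
  refine ⟨?_, ?_⟩
  · have : 0 ≤ (j : ℤ) * ((L : ℤ) * (C : ℤ) * (D : ℤ) * 23) := by positivity
    linarith
  · rw [hnX]
    push_cast
    exact Int.mul_emod_left _ _

/-- The elements of orders 5 and 7 fit. -/
theorem Members.compYW_ok (hh : orderOf h = 5) (hw : orderOf w = 7) (hr : M.Adm rs) :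
    compYW k5 k7 (rs.map M.tent) (rs.map fun χ => iv χ h) (rs.map fun χ => iv χ w) = true := by
  obtain ⟨hI, hC, -⟩ := M.at5 hh
  obtain ⟨hJ, hD, vc, -⟩ := M.at7 hw
  simp only [compYW, forceN_eq, forceI_eq, M.lcmT_tent, M.ents_tent]
  refine M.fits_ok hr hI hJ (by rw [hh]; norm_num) (by rw [hh]; norm_num) hC hD rfl ?_
  rw [E3.pairSum_map, vc]
  ring

/-- A class of involutions fits the element of order 5. -/
theorem Members.compY_ok (hg : orderOf g = 2) (hh : orderOf h = 5) (hr : M.Adm rs) :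
    compY k5 (rs.map M.tent) ⟨cC g, M.tup g, rs.map fun χ => iv χ g⟩ (rs.map fun χ => iv χ h) = true := by
  obtain ⟨hJ, hD, -, -, vc, -⟩ := M.at5 hh
  simp only [compY, forceN_eq, forceI_eq, M.lcmT_tent, M.ents_tent, Members.tup]
  refine M.fits_ok hr (intAt_invol hg) hJ (by rw [hg]; norm_num) (by rw [hg]; norm_num) rfl hD rfl ?_
  rw [E3.pairSum_map, vc]
  ring

/-- A class of involutions fits the element of order 7. -/
theorem Members.compW_ok (hg : orderOf g = 2) (hw : orderOf w = 7) (hr : M.Adm rs) :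
    compW k7 (rs.map M.tent) ⟨cC g, M.tup g, rs.map fun χ => iv χ g⟩ (rs.map fun χ => iv χ w) = true := by
  obtain ⟨hJ, hD, vc, -⟩ := M.at7 hw
  simp only [compW, forceN_eq, forceI_eq, M.lcmT_tent, M.ents_tent]
  refine M.fits_ok hr (intAt_invol hg) hJ (by rw [hg]; norm_num) (by rw [hg]; norm_num) rfl hD rfl ?_
  rw [E3.pairSum_map, vc]
  ring

end CfsgLib.M24Order.E6
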