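import Cfsg.Agent.Lib.M24Order.E6.Block11

/-!
# Simple groups of order 244823040, `|N(P₇) : C(P₇)| = 6`: no members of the blocks pass the computations
-/

set_option autoImplicit false
set_option linter.unusedSectionVars false
set_option linter.style.haveILetI false
set_option maxHeartbeats 1000000

namespace CfsgLib.M24Order.E6

open Cfsg
open scoped ComplexConjugate CfsgLib.Char
open CfsgLib CfsgLib.BrauerTuan CfsgLib.OrderBlocks CfsgLib.M24Order
open scoped _root_.Classical

universe u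

variable {G : Type u} [Group G] [Fintype G] [IsSimpleGroup G]
  [Fact (Nat.Prime 5)] [Fact (Nat.Prime 7)] [Fact (Nat.Prime 11)] [Fact (Nat.Prime 23)] {k5 k7 : ℕ}
  {M : Members G k5 k7} {rs : List (IrrCharacter G)}

/-- The list of the members is in the table. -/
theorem Members.exists_canon (M : Members G k5 k7) {canon : List ℕ} (hL : checkLists M.com canon = true) :
    ∃ e ∈ canon.map (mkT · 9), ((M.cs ++ [M.ψ]).map M.tent).Perm e := by
  obtain ⟨x, hx⟩ : ∃ x : IrrCharacter G → ℤ, x = fun χ => M.B23.σ χ * (deg χ : ℤ) := ⟨_, rfl⟩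
  have hent : ∀ χ ∈ M.cs, M.ent χ = (x χ, 1) := fun χ hχ => by rw [hx]; exact M.ent_cs hχ
  have h := M.sq_one (rs := M.cs ++ [M.ψ]) (List.Perm.refl _)
  rw [List.map_append, List.sum_append, List.map_congr_left (l := M.cs) (g := fun χ => x χ * x χ)
    fun χ hχ => by rw [hent χ hχ]; simp] at h
  simp only [List.map_cons, List.map_nil, List.sum_cons, List.sum_nil, M.ent_ψ] at h
  have h0 := E3.sum_sq_nonneg' M.x11 M.ms
  have hy0 : 0 ≤ M.y * M.y := mul_self_nonneg _
  have hy : M.y = 1 + 5544 + (M.cs.map x).sum := by rw [hx]; exact M.sum23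
  have hndcs : M.cs.Nodup := (List.nodup_append.mp M.nd_cs).1
  have hcm : M.cm ∈ M.cs := M.cm_cs
  have hψ0 : M.tag M.ψ = 0 := by
    rw [Members.tag, if_neg fun e : M.ψ = M.cm => M.ψ_not_cs (e ▸ hcm),
      if_neg fun e : M.ψ = M.alt => M.ψ_not_cs (e ▸ M.alt_mem)]
  have htψ : M.tent M.ψ = ((-M.y, 2), 0) := Prod.ext M.ent_ψ hψ0
  -- the known members in front, the others behind
  obtain ⟨F, R, hperm, hF, ht0⟩ : ∃ F R, M.cs.Perm (F ++ R) ∧ F.map M.tent = fixedTags M.com ∧
      ∀ φ ∈ R, M.tent φ = ((x φ, 1), 0) := by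
    have hp0 := List.perm_cons_erase hcm
    have hm : ∀ φ ∈ M.cs.erase M.cm, φ ∈ M.cs ∧ φ ≠ M.cm := fun φ hφ =>
      ⟨List.mem_of_mem_erase hφ, fun e => hndcs.not_mem_erase (e ▸ hφ)⟩
    rcases M.cm_deg with ⟨h22, hcom, -, hc⟩ | ⟨h35, hcom, -, hc⟩
    · obtain ⟨ha, had, hax, -⟩ := M.alt_spec h22
      have hne : M.alt ≠ M.cm := fun e => by rw [e, h22] at had; norm_num at had
      have hp1 := List.perm_cons_erase ((List.mem_erase_of_ne hne).mpr ha)
      refine ⟨[M.cm, M.alt], (M.cs.erase M.cm).erase M.alt, hp0.trans (hp1.cons _), ?_, fun φ hφ => ?_⟩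
      · have ht1 : M.tent M.cm = ((-22, 1), 1) := Prod.ext (by rw [← hc]; exact M.ent_cs hcm)
          (by show M.tag M.cm = 1; rw [Members.tag, if_pos rfl, if_pos h22])
        have ht2 : M.tent M.alt = ((231, 1), 2) := Prod.ext (by rw [← hax]; exact M.ent_cs ha)
          (by show M.tag M.alt = 2; rw [Members.tag, if_neg hne, if_pos rfl])
        simp only [List.map_cons, List.map_nil, ht1, ht2, fixedTags, hcom, if_true]
      · have hφ' : φ ∈ M.cs.erase M.cm := List.mem_of_mem_erase hφ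
        refine Prod.ext (hent φ (hm φ hφ').1) ?_
        show M.tag φ = 0
        rw [Members.tag, if_neg (hm φ hφ').2, if_neg fun e => (hndcs.erase M.cm).not_mem_erase (e ▸ hφ)]
    · have ha : M.alt = M.cm := by rw [Members.alt, dif_neg (by rw [h35]; norm_num)]
      refine ⟨[M.cm], M.cs.erase M.cm, hp0, ?_, fun φ hφ => ?_⟩
      · have ht1 : M.tent M.cm = ((3520, 1), 3) := Prod.ext (by rw [← hc]; exact M.ent_cs hcm)
          (by show M.tag M.cm = 3; rw [Members.tag, if_pos rfl, if_neg (by rw [h35]; norm_num)])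
        simp only [List.map_cons, List.map_nil, ht1, fixedTags, hcom, show (3520 : ℕ) = 22 ↔ False by norm_num,
          if_false, if_true]
      · refine Prod.ext (hent φ (hm φ hφ).1) ?_
        show M.tag φ = 0
        rw [Members.tag, if_neg (hm φ hφ).2, if_neg (ha.symm ▸ (hm φ hφ).2)]
  have hsumF : (F.map x).sum = ((fixedTags M.com).map fun e => e.1.1).sum := by
    rw [← hF, List.map_map]
    refine congrArg List.sum (List.map_congr_left fun φ hφ => ?_)
    simp [Members.tent, hent φ (hperm.symm.subset (List.mem_append_left _ hφ))]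
  have hsqF : (F.map fun φ => x φ * x φ).sum = knownSq M.com := by
    rw [knownSq, ← hF, List.map_map]
    refine congrArg List.sum (List.map_congr_left fun φ hφ => ?_)
    simp [Members.tent, hent φ (hperm.symm.subset (List.mem_append_left _ hφ))]
  have hlen : R.length = 9 - (fixedTags M.com).length := by
    have := hperm.length_eq
    rw [M.len, List.length_append] at this
    rw [← hF, List.length_map]
    omega
  rw [(hperm.map fun χ => x χ * x χ).sum_eq, List.map_append, List.sum_append, hsqF] at h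
  have hsq : ((R.map x).map fun a => a * a).sum + 2 * (M.y * M.y) ≤ budget - knownSq M.com := by
    rw [List.map_map, show ((fun a : ℤ => a * a) ∘ x) = fun χ => x χ * x χ from rfl]
    push_cast at h
    linarith
  have h6336 : M.com ≠ 6336 := by
    rcases M.cm_deg with ⟨-, e, -⟩ | ⟨-, e, -⟩ <;> rw [e] <;> norm_num
  rw [checkLists, if_neg h6336] at hL
  obtain ⟨s', hs', hP⟩ := E3.allL_sound _ E3.xs23.reverse _ _ [] (R.map x) hL
    (fun a ha => by
      obtain ⟨χ, hχ, rfl⟩ := List.mem_map.mp ha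
      rw [hx, List.mem_reverse]
      exact M.mem23 χ (hperm.symm.subset (List.mem_append_right _ hχ)))
    (by rw [List.length_map, hlen]) (by linarith)
  simp only [List.nil_append, forceI_eq] at hP
  rw [(hperm.map x).sum_eq, List.map_append, List.sum_append, hsumF] at hy
  have hq : ¬ budget < knownSq M.com + (s'.map fun a : ℤ => a * a).sum + 2 * (M.y * M.y) := by
    rw [(hs'.map fun a : ℤ => a * a).sum_eq]
    linarith
  rw [hs'.sum_eq, show 1 + 5544 + ((fixedTags M.com).map fun e => e.1.1).sum + (R.map x).sum = M.y by linarith,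
    List.contains_iff_mem.mpr M.memy, decide_eq_false hq] at hP
  simp only [Bool.not_true, Bool.false_or, inCanon, forceN_eq, Bool.and_eq_true, List.any_eq_true,
    decide_eq_true_eq] at hP
  obtain ⟨⟨m, hm, hme⟩, hmk⟩ := hP
  refine ⟨_, List.mem_map.mpr ⟨m, hm, (congrArg (mkT · 9) (Nat.eq_of_beq_eq_true hme)).trans hmk⟩, ?_⟩
  refine ((hperm.append_right [M.ψ]).map M.tent).trans ?_
  simp only [List.map_append, List.map_cons, List.map_nil, htψ, hF, mkBase, List.append_assoc,
    show pairTag M.com = 0 by rw [pairTag, if_neg h6336]]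
  refine (List.Perm.append_right _ ?_).append_left _
  rw [List.map_congr_left (g := fun φ => ((((x φ), 1), 0) : TEnt)) ht0]
  have := hs'.symm.map fun a : ℤ => (((a, 1), 0) : TEnt)
  rwa [List.map_map] at this

/-- No members pass the computations. -/
theorem false_of_members (M : Members G k5 k7) {canon : List ℕ} {tabS tabZ : List (ℕ × T5)}
    {plans : List Plan} (hlists : checkLists M.com canon = true) (hS : checkTups k5 true 5 tabS = true)
    (hZ : checkTups k5 false 7 tabZ = true) (hbase : ∀ e ∈ canon.map (mkT · 9), ∃ P ∈ plans, P.base = e)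
    (hperm : ∀ P ∈ plans, P.es.Perm P.base) (hplans : ∀ P ∈ plans, okPlan M.com k5 tabS tabZ P = true) : False := by
  obtain ⟨e, he, hpe⟩ := M.exists_canon hlists
  obtain ⟨P, hP, hPb⟩ := hbase e he
  obtain ⟨rs0, hrs0, hmap0⟩ := exists_perm_map M.tent P.es (M.cs ++ [M.ψ]) ((hperm P hP).trans (hPb ▸ hpe.symm))
  have hok := hplans P hP
  obtain ⟨w₀, hw₀, hw1⟩ := M12Order.exists_ne_one_P M.B7.T
  have hw := orderOf_of_mem M.B7.T.card_P hw₀ hw1
  rw [okPlan, Bool.or_eq_true] at hok
  rcases hok with hok | hok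
  swap
  · have hk := List.all_eq_true.mp hok k7 M.k7_mem
    rw [← hmap0] at hk
    exact absurd (M.col7 hw hrs0 hk) Bool.false_ne_true
  rw [Bool.and_eq_true] at hok
  obtain ⟨pY, pK⟩ := hok
  obtain ⟨s, hs2, hs5, hsN, hsP⟩ := E3.exists_invol_nor M.B11.T M.B11.e_eq
  obtain ⟨rs, hrs, hmap, hasc⟩ := E3.exists_asc M.tent (fun χ => sgn (M.tent χ).1.1 * iv χ s) rs0
  have hr : M.Adm rs := hrs.trans hrs0
  rw [hmap0] at hmap
  obtain ⟨h, hh, hhN, hhP⟩ := E3.exists_five_nor M.B11 M.B11.e_eq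
  -- the element of order 5
  rw [okY, ← hmap] at pY
  have hY := List.contains_iff_mem.mp (M.col5 hh hhN hhP hr pY)
  rw [List.isEmpty_eq_false_iff.mpr (List.ne_nil_of_mem hY), Bool.false_or, List.all_eq_true] at pK
  obtain ⟨K, -, hK⟩ := List.any_eq_true.mp (pK k7 M.k7_mem)
  simp only [Bool.and_eq_true, decide_eq_true_eq] at hK
  obtain ⟨⟨⟨⟨hk, pW⟩, pS⟩, pZ⟩, pM⟩ := hK
  -- the element of order 7
  rw [okW, hk, ← hmap] at pW
  have hW := List.all_eq_true.mp (M.col7 hw hr pW) _ hY
  rw [M.compYW_ok hh hw hr, Bool.not_true, Bool.false_or, List.contains_iff_mem] at hW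
  have hne : K.ryw.isEmpty = false := List.isEmpty_eq_false_iff.mpr (List.ne_nil_of_mem hW)
  -- the involution inverting the Sylow subgroup
  have hCs := E3.mem_centsP M.card_G M.B23.T M.B11.T hs2 hs5
  have hts := M.tup_mem (spec := true) hs2 (fun _ => hsN) hCs hS
  rw [okS, hne, Bool.false_or] at pS
  have pS' := List.all_eq_true.mp pS _ hCs
  rw [forceN_eq, ← hmap] at pS'
  have hS1 := M.col_fin hs2 (fun _ => hsN) (fun e => Bool.noConfusion e) hts hr
    (fun hA => ord_vars M.tent (fun χ => iv χ s) rs hasc hA) (by rw [usum_vars_nil]; rfl) pS'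
  have hcs : (K.ryw.any fun p => compY k5 (rs.map M.tent) ⟨cC s, M.tup s, rs.map fun χ => iv χ s⟩ p.1 &&
      compW K.k7 (rs.map M.tent) ⟨cC s, M.tup s, rs.map fun χ => iv χ s⟩ p.2) = true :=
    List.any_eq_true.mpr ⟨_, hW, by rw [hk, M.compY_ok hs2 hh hr, M.compW_ok hs2 hw hr]; rfl⟩
  obtain ⟨v, hv, hv1⟩ := M12Order.exists_ne_one_P M.B11.T
  obtain ⟨hinv, hNs⟩ := E3.inverts_and_pairs M.B11 rfl (by norm_num) hs2 hsN hsP hv hv1
  have hlk : ∀ ms : List ℤ, ms.Perm (M.ms.map M.x11) →
      (linkOn (rs.map M.tent) && !ms.contains (-230)) = false := fun ms hms => by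
    rw [Bool.eq_false_iff, ne_eq, Bool.and_eq_true, Bool.not_eq_true']
    rintro ⟨hl, hc⟩
    obtain ⟨ms2, -, -, -, hlink⟩ := M.exists_arrange hr hs2 hms
    rw [List.contains_iff_mem.mpr (hlink hl).1] at hc
    exact Bool.noConfusion hc
  rw [hcs, Bool.not_true, Bool.or_false, Bool.or_eq_true, List.contains_iff_mem] at hS1
  rcases hS1 with hS1 | hS1
  swap
  · -- the block for 11 at the first involution alone
    rw [deadS, M.ents_tent] at hS1
    obtain ⟨ms, hms, pM'⟩ := M.exists_ms hr hS1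
    rw [hlk ms hms, Bool.false_or, forceL_eq, M.noB11_false hs2 (fun _ => hsN) hr hv hv1 (by rw [hNs, one_mul]) hms]
      at pM'
    exact Bool.false_ne_true pM'
  -- the involution in the centraliser of the Sylow subgroup for 7
  rw [okZ, List.isEmpty_eq_false_iff.mpr (List.ne_nil_of_mem hS1), Bool.false_or] at pZ
  simp only [Bool.and_eq_true, beq_iff_eq, List.isPerm_iff, List.all_eq_true, decide_eq_true_eq] at pZ
  obtain ⟨⟨⟨⟨⟨⟨hev, hlen⟩, hzp⟩, hzi⟩, hzil⟩, -⟩, pC⟩ := pZ
  haveI : Fact (Nat.Prime 2) := ⟨Nat.prime_two⟩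
  obtain ⟨z, hz, hz7⟩ := exists_commuting (r := 2) M.B7.T (hk ▸ Nat.dvd_of_mod_eq_zero hev : 2 ∣ k7)
  have hrl : rs.length = P.es.length := by rw [← hmap, List.length_map]
  have hzp' : ∀ i ∈ K.zp, i < rs.length := fun i hi => hrl ▸ List.mem_range.mp (hzp.subset hi)
  have hrz : M.Adm (E3.pick rs M.ψ K.zp) := by
    refine List.Perm.trans ?_ hr
    have := hzp.map fun i => rs.getD i M.ψ
    rwa [← hrl, E3.pick_range] at this
  have hCz := E3.mem_centsP M.card_G M.B23.T M.B11.T hz hz7
  have htz := M.tup_mem (spec := false) hz (fun e => Bool.noConfusion e) hCz hZ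
  have hpick : ∀ A : IrrCharacter G → ℤ, E3.pick ((E3.pick rs M.ψ K.zp).map A) 0 K.zi = rs.map A := fun A => by
    rw [E3.pick_map A _ M.ψ 0 _ (fun i hi => by
      simp only [E3.pick, List.length_map]; rw [← hlen]; exact hzil i hi)]
    refine congrArg (List.map A) ?_
    have h1 : E3.pick (E3.pick rs M.ψ K.zp) M.ψ K.zi = E3.pick rs M.ψ (E3.pick K.zp 0 K.zi) := by
      simp only [E3.pick, List.map_map]
      refine List.map_congr_left fun i hi => ?_
      have hi' : i < K.zp.length := hlen ▸ hzil i hi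
      simp [hi']
    rw [h1, hzi, ← hrl]
    exact E3.pick_range rs M.ψ
  obtain ⟨S, hSdef⟩ : ∃ S : Sol, S = ⟨cC s, M.tup s, rs.map fun χ => iv χ s⟩ := ⟨_, rfl⟩
  obtain ⟨Z, hZdef⟩ : ∃ Z : Sol, Z = ⟨cC z, M.tup z, rs.map fun χ => iv χ z⟩ := ⟨_, rfl⟩
  have hun : unpick K ⟨cC z, M.tup z, (E3.pick rs M.ψ K.zp).map fun χ => iv χ z⟩ = Z := by
    rw [hZdef, unpick, hpick]
  have hc2 : compat2 k5 K.k7 P.es K.ryw S Z = true := by
    simp only [compat2, forceN_eq, Bool.and_eq_true, Bool.or_eq_true, decide_eq_true_eq, List.any_eq_true]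
    refine ⟨Or.inr ?_, _, hW, ⟨⟨?_, ?_⟩, ?_⟩, ?_⟩
    · rw [hSdef, hZdef, ← hmap, M.lcmT_tent, M.ents_tent, E3.pairSum_map]
      exact M.pair23_zero hr hs2 hz rfl
    · rw [hZdef, ← hmap]; exact M.compY_ok hz hh hr
    · rw [hZdef, ← hmap, hk]; exact M.compW_ok hz hw hr
    · rw [hSdef, ← hmap]; exact M.compY_ok hs2 hh hr
    · rw [hSdef, ← hmap, hk]; exact M.compW_ok hs2 hw hr
  have pC' := pC _ hCz
  rw [forceN_eq, ← hmap] at pC'
  have hmz : E3.pick (rs.map M.tent) (((0, 0), 0) : TEnt) K.zp = (E3.pick rs M.ψ K.zp).map M.tent :=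
    E3.pick_map M.tent rs M.ψ _ _ hzp'
  rw [hmz] at pC'
  have hpair : inGrp K S Z = true := by
    cases hX : K.useX with
    | true =>
      rw [hX, if_pos rfl] at pC'
      have p1 := List.all_eq_true.mp pC' _ hS1
      rw [E3.pick_map (fun χ => iv χ s) rs M.ψ 0 _ hzp'] at p1
      have p2 := M.col_fin hz (fun e => Bool.noConfusion e) (fun _ => hz7) htz hrz
        (fun _ => ord_false M.tent _ none 0 _ _) (by
          rw [usum_vars]
          simp only [uStart]
          exact M.pair23_zero hrz hs2 hz rfl) p1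
      rw [hmap, ← hSdef, hun, hc2, Bool.not_true, Bool.false_or] at p2
      exact p2
    | false =>
      rw [hX, if_neg Bool.false_ne_true] at pC'
      have p2 := M.col_fin hz (fun e => Bool.noConfusion e) (fun _ => hz7) htz hrz
        (fun _ => ord_false M.tent _ none 0 _ _) (by rw [usum_vars_nil]; rfl) pC'
      have p3 := List.all_eq_true.mp p2 _ hS1
      rw [hmap, ← hSdef, hun, hc2, Bool.not_true, Bool.false_or] at p3
      exact p3
  simp only [inGrp, List.any_eq_true, Bool.and_eq_true, decide_eq_true_eq, List.contains_iff_mem] at hpair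
  obtain ⟨g, hg, hgS, hgZ⟩ := hpair
  -- the block for 11
  rw [okM, List.isEmpty_eq_false_iff.mpr (List.ne_nil_of_mem hg), Bool.false_or, ← hmap, M.ents_tent] at pM
  obtain ⟨ms, hms, pM'⟩ := M.exists_ms hr pM
  rw [hlk ms hms, Bool.false_or, forceL_eq] at pM'
  have p1 := List.all_eq_true.mp pM' g hg
  rw [hgS, hSdef, M.noB11_false hs2 (fun _ => hsN) hr hv hv1 (by rw [hNs, one_mul]) hms, Bool.false_or] at p1
  have p2 := List.all_eq_true.mp p1 Z hgZ
  simp only [Bool.and_eq_true, decide_eq_true_eq, Bool.or_eq_true] at p2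
  obtain ⟨hne', hok'⟩ := p2
  have hc : ¬ IsConj s z := fun hc => hne' (by
    obtain ⟨c, rfl⟩ := isConj_iff.mp hc
    simp only [hZdef, Members.tup, cC_conj, iv_conj _ (mul_self_of_order_two hs2)])
  have h0 := E3.no_pairs_of_not_conj M.B11 rfl (mul_self_of_order_two hs2) (mul_self_of_order_two hz) hv hv1 hsN
    hsP hinv hc
  rw [hZdef, M.noB11_false hz (fun e => Bool.noConfusion e) hr hv hv1 (by rw [h0, zero_mul]) hms,
    M.noB11Two_false hs2 hz hr hsN hsP hc hv hv1 hms] at hok'
  simp at hok'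

end CfsgLib.M24Order.E6
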