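import Cfsg.Agent.Lib.Char.ValueMinusFour
import Cfsg.Agent.Lib.Char.AltSquare
import Cfsg.Agent.Lib.OrderBlocks.Block

/-!
# The squares of a real character of degree 22 with indicator one

With the characters of degree at most 252 and their values at an element `v` known, the alternating square is
irreducible of degree 231, and the symmetric square is `1` plus either one character of degree 252 or two of
degrees 22 and 230.
-/

set_option autoImplicit false
set_option linter.unusedSectionVars false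
set_option linter.style.haveILetI false

namespace CfsgLib.M24Order.E6

open Cfsg
open scoped ComplexConjugate CfsgLib.Char
open CfsgLib CfsgLib.OrderBlocks
open scoped _root_.Classical

universe u

variable {G : Type u} [Group G] [Fintype G]

/-- The characters of degree at most 252 and their values at `v`. -/
def SmallAt (v : G) : Prop :=
  ∀ ξ : IrrCharacter G, ξ ≠ Blocks.trivIrr G → deg ξ ≤ 252 →
    (deg ξ = 22 ∧ (ξ : G → ℂ) v = -1) ∨ (deg ξ = 45 ∧ (ξ : G → ℂ) v = -1) ∨ (deg ξ = 230 ∧ (ξ : G → ℂ) v = 0) ∨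
      (deg ξ = 231 ∧ (ξ : G → ℂ) v = 1) ∨ (deg ξ = 252 ∧ (ξ : G → ℂ) v = -1)

/-- A non-trivial constituent is no larger, and leaves a character. -/
theorem constituent {φ : G → ℂ} (hφ : IsCharacter G φ) {D : ℕ} (hD : φ 1 = D)
    (hone : classInner φ (fun _ => (1 : ℂ)) = 0) {ξ : IrrCharacter G} (h : classInner φ (ξ : G → ℂ) ≠ 0) :
    ξ ≠ Blocks.trivIrr G ∧ deg ξ ≤ D ∧ IsCharacter G (φ - (ξ : G → ℂ)) ∧
      (φ - (ξ : G → ℂ)) 1 = ((D - deg ξ : ℕ) : ℂ) ∧ classInner (φ - (ξ : G → ℂ)) (fun _ => (1 : ℂ)) = 0 := by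
  have hne : ξ ≠ Blocks.trivIrr G := fun e => h (by rw [e]; simpa [Blocks.trivIrr] using hone)
  have hR := Char.MinusFour.isCharacter_sub_constituent hφ h
  obtain ⟨r, hr⟩ := Char.exists_nat_degree hR
  rw [Pi.sub_apply, hD, value_one', sub_eq_iff_eq_add, ← Nat.cast_add, Nat.cast_inj] at hr
  refine ⟨hne, by omega, hR, ?_, ?_⟩
  · rw [Pi.sub_apply, hD, value_one', Nat.cast_sub (by omega : deg ξ ≤ D)]
  · rw [Char.classInner_sub_left, hone, Char.classInner_irr_ne ξ.2 Char.isIrrCharacter_one, sub_zero]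
    intro e
    exact hne (Subtype.ext (by simpa [Blocks.trivIrr] using e))

/-- A constituent with a value of the sign of the value of the character. -/
theorem exists_signed {φ : G → ℂ} (hφ : IsCharacter G φ) {v : G} {s : ℝ} (hpos : 0 < s * (φ v).re) :
    ∃ ξ : IrrCharacter G, classInner φ (ξ : G → ℂ) ≠ 0 ∧ 0 < s * ((ξ : G → ℂ) v).re := by
  obtain ⟨m, hm⟩ := Char.exists_multiplicities hφ
  have hval : (φ v).re = ∑ ψ : IrrCharacter G, (m ψ : ℝ) * ((ψ : G → ℂ) v).re := by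
    rw [hm]
    simp [Finset.sum_apply, Complex.re_sum, Complex.mul_re]
  obtain ⟨ξ, -, hξ⟩ := Finset.exists_lt_of_sum_lt
    (show ∑ ψ : IrrCharacter G, (0 : ℝ) < ∑ ψ : IrrCharacter G, (m ψ : ℝ) * (s * ((ψ : G → ℂ) v).re) by
      simp only [Finset.sum_const_zero, mul_left_comm, ← Finset.mul_sum]
      rw [← hval]; exact hpos)
  have hm0 : m ξ ≠ 0 := by
    intro h0
    rw [h0] at hξ
    simp at hξ
  refine ⟨ξ, ?_, (pos_iff_pos_of_mul_pos hξ).mp (by exact_mod_cast Nat.pos_of_ne_zero hm0)⟩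
  rw [hm, Char.classInner_sum_smul_irr]
  exact_mod_cast hm0

/-- A constituent. -/
theorem exists_constituent {φ : G → ℂ} (hφ : IsCharacter G φ) (h0 : φ 1 ≠ 0) :
    ∃ ξ : IrrCharacter G, classInner φ (ξ : G → ℂ) ≠ 0 := by
  obtain ⟨m, hm⟩ := Char.exists_multiplicities hφ
  by_contra hno
  push Not at hno
  refine h0 ?_
  have hz : ∀ ξ : IrrCharacter G, (m ξ : ℂ) = 0 := fun ξ => by
    have := hno ξ
    rwa [hm, Char.classInner_sum_smul_irr] at this
  rw [hm]
  simp [Finset.sum_apply, hz]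

theorem eq_of_sub_degree_zero {φ : G → ℂ} {ξ : IrrCharacter G} (hR : IsCharacter G (φ - (ξ : G → ℂ)))
    (h : (φ - (ξ : G → ℂ)) 1 = 0) (g : G) : φ g = (ξ : G → ℂ) g :=
  sub_eq_zero.mp (congrFun (Char.MinusFour.eq_zero_of_degree_zero hR h) g)

variable {χ : IrrCharacter G} {v : G}

/-- The mean of `χ²` and that of `χ(g²)`. -/
theorem means (hreal : ∀ g, ((χ : G → ℂ) g).im = 0) (hν : Char.indicator (χ : G → ℂ) = 1) :
    classInner (fun g => (χ : G → ℂ) g * (χ : G → ℂ) g) (fun _ => (1 : ℂ)) = 1 ∧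
      classInner (fun g => (χ : G → ℂ) (g * g)) (fun _ => (1 : ℂ)) = 1 := by
  constructor
  · refine Eq.trans ?_ (Char.classInner_irr_self χ.2)
    simp only [classInner, map_one, mul_one]
    exact congrArg _ (Finset.sum_congr rfl fun g _ => by rw [Complex.conj_eq_iff_im.mpr (hreal g)])
  · refine Eq.trans ?_ hν
    simp only [classInner, Char.indicator, map_one, mul_one]

/-- **The alternating square is irreducible of degree 231**, without the principal character. -/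
theorem exists_alt_of_inner (hd : deg χ = 22)
    (hone : classInner (fun g => ((χ : G → ℂ) g * (χ : G → ℂ) g - (χ : G → ℂ) (g * g)) / 2) (fun _ => (1 : ℂ)) = 0)
    (hv : (χ : G → ℂ) v = -1) (hv2 : (χ : G → ℂ) (v * v) = -1) (hS : SmallAt v) :
    ∃ ξ : IrrCharacter G, deg ξ = 231 ∧ ∀ g, (ξ : G → ℂ) g =
      ((χ : G → ℂ) g * (χ : G → ℂ) g - (χ : G → ℂ) (g * g)) / 2 := by
  obtain ⟨φ, hφ⟩ : ∃ φ : G → ℂ, φ = fun g => ((χ : G → ℂ) g * (χ : G → ℂ) g - (χ : G → ℂ) (g * g)) / 2 := ⟨_, rfl⟩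
  have hc : IsCharacter G φ := hφ ▸ Char.isCharacter_altSquare (Char.isCharacter_of_isIrr χ.2)
  rw [← hφ] at hone
  have hD : φ 1 = ((231 : ℕ) : ℂ) := by
    simp only [hφ, mul_one, value_one', hd]; norm_num
  have hφv : φ v = 1 := by simp only [hφ, hv, hv2]; norm_num
  obtain ⟨ξ, hin, hpos⟩ := exists_signed hc (v := v) (s := 1) (by rw [hφv]; norm_num)
  obtain ⟨hne, hle, hR, hR1, -⟩ := constituent hc hD hone hin
  rcases hS ξ hne (by omega) with ⟨-, h⟩ | ⟨-, h⟩ | ⟨-, h⟩ | ⟨h231, -⟩ | ⟨-, h⟩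
  case inr.inr.inr.inl =>
    refine ⟨ξ, h231, fun g => ?_⟩
    rw [← eq_of_sub_degree_zero hR (by rw [hR1, h231]; norm_num) g, hφ]
  all_goals (rw [h] at hpos; norm_num at hpos)

/-- The principal character in the alternating square. -/
theorem inner_alt (χ : IrrCharacter G) :
    classInner (fun g => ((χ : G → ℂ) g * (χ : G → ℂ) g - (χ : G → ℂ) (g * g)) / 2) (fun _ => (1 : ℂ)) =
      (classInner (χ : G → ℂ) (fun g => conj ((χ : G → ℂ) g)) - Char.indicator (χ : G → ℂ)) / 2 := by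
  simp only [classInner, Char.indicator, map_one, mul_one, Complex.conj_conj, ← mul_sub, ← Finset.sum_sub_distrib,
    mul_div_assoc, Finset.sum_div]

/-- No principal character in the alternating square, unless the indicator is `-1`. -/
theorem inner_alt_zero (χ : IrrCharacter G)
    (h : (∀ g, ((χ : G → ℂ) g).im = 0) → Char.indicator (χ : G → ℂ) = 1) :
    classInner (fun g => ((χ : G → ℂ) g * (χ : G → ℂ) g - (χ : G → ℂ) (g * g)) / 2) (fun _ => (1 : ℂ)) = 0 := by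
  rw [inner_alt, Char.classInner_conj_cases χ.2]
  rcases Char.indicator_cases χ.2 with ⟨hr, -⟩ | ⟨⟨g, hg⟩, h0⟩
  · rw [if_pos hr, h hr]; norm_num
  · rw [if_neg fun hr => hg (hr g), h0]; norm_num

/-- **The alternating square is irreducible of degree 231.** -/
theorem exists_alt (hd : deg χ = 22) (hreal : ∀ g, ((χ : G → ℂ) g).im = 0)
    (hν : Char.indicator (χ : G → ℂ) = 1) (hv : (χ : G → ℂ) v = -1) (hv2 : (χ : G → ℂ) (v * v) = -1)
    (hS : SmallAt v) :
    ∃ ξ : IrrCharacter G, deg ξ = 231 ∧ ∀ g, (ξ : G → ℂ) g =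
      ((χ : G → ℂ) g * (χ : G → ℂ) g - (χ : G → ℂ) (g * g)) / 2 :=
  exists_alt_of_inner hd (inner_alt_zero χ fun _ => hν) hv hv2 hS

/-- **The symmetric square is `1 + 252` or `1 + 22 + 230`.** -/
theorem exists_sym (hd : deg χ = 22) (hreal : ∀ g, ((χ : G → ℂ) g).im = 0)
    (hν : Char.indicator (χ : G → ℂ) = 1) (hv : (χ : G → ℂ) v = -1) (hv2 : (χ : G → ℂ) (v * v) = -1)
    (hS : SmallAt v) :
    (∃ ξ : IrrCharacter G, deg ξ = 252 ∧ ∀ g, (ξ : G → ℂ) g =
      ((χ : G → ℂ) g * (χ : G → ℂ) g + (χ : G → ℂ) (g * g)) / 2 - 1) ∨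
    ∃ ξ η : IrrCharacter G, deg ξ = 22 ∧ deg η = 230 ∧ ∀ g, (ξ : G → ℂ) g + (η : G → ℂ) g =
      ((χ : G → ℂ) g * (χ : G → ℂ) g + (χ : G → ℂ) (g * g)) / 2 - 1 := by
  obtain ⟨σ, hσ⟩ : ∃ σ : G → ℂ, σ = fun g => ((χ : G → ℂ) g * (χ : G → ℂ) g + (χ : G → ℂ) (g * g)) / 2 := ⟨_, rfl⟩
  have hcσ : IsCharacter G σ := hσ ▸ Char.MinusFour.isCharacter_symmSquare (Char.isCharacter_of_isIrr χ.2)
  have h1σ : classInner σ (fun _ => (1 : ℂ)) = 1 := by
    obtain ⟨h1, h2⟩ := means hreal hν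
    rw [hσ, show (fun g => ((χ : G → ℂ) g * (χ : G → ℂ) g + (χ : G → ℂ) (g * g)) / 2) =
      (2 : ℂ)⁻¹ • ((fun g => (χ : G → ℂ) g * (χ : G → ℂ) g) + fun g => (χ : G → ℂ) (g * g)) from
        funext fun g => by simp [div_eq_inv_mul],
      Char.classInner_smul_left, Char.classInner_add_left, h1, h2]
    norm_num
  obtain ⟨φ, hφ⟩ : ∃ φ : G → ℂ, φ = σ - fun _ => (1 : ℂ) := ⟨_, rfl⟩
  have hc : IsCharacter G φ := by
    rw [hφ]
    exact Char.MinusFour.isCharacter_sub_constituent (ξ := ⟨fun _ => (1 : ℂ), Char.isIrrCharacter_one⟩) hcσ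
      (by rw [h1σ]; exact one_ne_zero)
  have hone : classInner φ (fun _ => (1 : ℂ)) = 0 := by
    rw [hφ, Char.classInner_sub_left, h1σ, Char.classInner_irr_self Char.isIrrCharacter_one, sub_self]
  have hD : φ 1 = ((252 : ℕ) : ℂ) := by
    simp only [hφ, hσ, Pi.sub_apply, mul_one, value_one', hd]; norm_num
  have hφv : φ v = -1 := by simp only [hφ, hσ, Pi.sub_apply, hv, hv2]; norm_num
  have hval : ∀ g, φ g = ((χ : G → ℂ) g * (χ : G → ℂ) g + (χ : G → ℂ) (g * g)) / 2 - 1 := fun g => by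
    simp only [hφ, hσ, Pi.sub_apply]
  obtain ⟨ξ, hin, hneg⟩ := exists_signed hc (v := v) (s := -1) (by rw [hφv]; norm_num)
  obtain ⟨hne, hle, hR, hR1, hR0⟩ := constituent hc hD hone hin
  -- the rest, if the constituent is small
  have rest : ∀ {r : ℕ}, (φ - (ξ : G → ℂ)) 1 = ((r : ℕ) : ℂ) → 0 < r → r ≤ 230 → (ξ : G → ℂ) v = -1 →
      ∃ η : IrrCharacter G, deg η = 230 ∧ r = 230 ∧ ∀ g, (φ - (ξ : G → ℂ)) g = (η : G → ℂ) g := by
    intro r hr hr0 hr1 hξv
    have hRv : (φ - (ξ : G → ℂ)) v = 0 := by rw [Pi.sub_apply, hφv, hξv]; norm_num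
    -- no constituent has a negative value
    obtain ⟨m, hm⟩ := Char.exists_multiplicities hR
    have hterm : ∀ η : IrrCharacter G, 0 ≤ (m η : ℝ) * -((η : G → ℂ) v).re := by
      intro η
      by_cases h0 : m η = 0
      · simp [h0]
      have hin' : classInner (φ - (ξ : G → ℂ)) (η : G → ℂ) ≠ 0 := by
        rw [hm, Char.classInner_sum_smul_irr]; exact_mod_cast h0
      obtain ⟨hne', hle', -, -, -⟩ := constituent hR hr hR0 hin'
      refine mul_nonneg (Nat.cast_nonneg _) ?_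
      rcases hS η hne' (by omega) with ⟨-, h⟩ | ⟨-, h⟩ | ⟨-, h⟩ | ⟨h, -⟩ | ⟨-, h⟩
      case inr.inr.inr.inl => omega
      all_goals (rw [h]; norm_num)
    have hsum : ∑ η : IrrCharacter G, (m η : ℝ) * -((η : G → ℂ) v).re = 0 := by
      have e : ((φ - (ξ : G → ℂ)) v).re = ∑ η : IrrCharacter G, (m η : ℝ) * ((η : G → ℂ) v).re := by
        rw [hm]
        simp [Finset.sum_apply, Complex.re_sum, Complex.mul_re]
      rw [hRv, Complex.zero_re] at e
      simp only [mul_neg, Finset.sum_neg_distrib, ← e, neg_zero]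
    obtain ⟨η, hη⟩ := exists_constituent hR (by rw [hr]; exact_mod_cast hr0.ne')
    obtain ⟨hne', hle', hR', hR1', -⟩ := constituent hR hr hR0 hη
    have h0 := (Finset.sum_eq_zero_iff_of_nonneg fun x _ => hterm x).mp hsum η (Finset.mem_univ η)
    have hm0 : (m η : ℝ) ≠ 0 := by
      intro h
      apply hη
      rw [hm, Char.classInner_sum_smul_irr]
      exact_mod_cast h
    have hv0 : ((η : G → ℂ) v).re = 0 := by simpa [hm0] using h0
    rcases hS η hne' (by omega) with ⟨-, h⟩ | ⟨-, h⟩ | ⟨h230, -⟩ | ⟨h, -⟩ | ⟨-, h⟩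
    case inr.inr.inl =>
      exact ⟨η, h230, by omega, eq_of_sub_degree_zero hR' (by rw [hR1', show r - deg η = 0 by omega, Nat.cast_zero])⟩
    case inr.inr.inr.inl => omega
    all_goals (rw [h] at hv0; norm_num at hv0)
  rcases hS ξ hne (by omega) with ⟨h22, h⟩ | ⟨h45, h⟩ | ⟨-, h⟩ | ⟨-, h⟩ | ⟨h252, -⟩
  · obtain ⟨η, h230, -, hη⟩ := rest hR1 (by omega) (by omega) h
    refine Or.inr ⟨ξ, η, h22, h230, fun g => ?_⟩
    rw [← hη g, Pi.sub_apply, add_sub_cancel, hval]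
  · obtain ⟨η, -, hr, -⟩ := rest hR1 (by omega) (by omega) h
    omega
  · rw [h] at hneg; norm_num at hneg
  · rw [h] at hneg; norm_num at hneg
  · refine Or.inl ⟨ξ, h252, fun g => ?_⟩
    rw [← eq_of_sub_degree_zero hR (by rw [hR1, h252]; norm_num) g, hval]

end CfsgLib.M24Order.E6
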