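import Cfsg.Agent.Lib.M24Order.Invol4
import Cfsg.Agent.Lib.M24Order.E6.Squares

/-!
# Simple groups of order 244823040: the characters of degree at most 252

No degree 12 (the alternating square of such a character has an even value at an element of order 5 with all
its possible constituents, and an odd degree-parity otherwise), so the values at the elements of `P₂₃` of the
characters of degree at most 252 are known.
-/

set_option autoImplicit false
set_option linter.unusedSectionVars false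
set_option linter.style.haveILetI false

namespace CfsgLib.M24Order.E6

open Cfsg
open scoped ComplexConjugate CfsgLib.Char
open CfsgLib CfsgLib.BrauerTuan CfsgLib.OrderBlocks CfsgLib.M24Order
open scoped _root_.Classical

universe u

variable {G : Type u} [Group G] [Fintype G] [IsSimpleGroup G] [Fact (Nat.Prime 5)] [Fact (Nat.Prime 11)]
  [Fact (Nat.Prime 23)] {xs : List ℤ} {y : ℤ} (B23 : Blk G 23 ⟨23, 1, 11, xs, some y⟩)
  (hx23 : ∀ φ ∈ B23.xl, B23.σ φ * (deg φ : ℤ) ∈ E3.xs23) (hy : y ∈ E3.ys23)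
  (hg2 : ∀ φ : IrrCharacter G, g2 (deg φ) = true) (hno : ∀ φ : IrrCharacter G, deg φ ≠ 23)

/-- The degrees up to 252 passing the residues. -/
theorem degs_le_252 : ∀ d < 253, (decide (244823040 % d ≠ 0) || !g2 d ||
    [1, 11, 12, 22, 23, 45, 230, 231, 252].contains d) = true := by
  decide +kernel

include hx23 hy hg2 hno in
/-- A non-trivial character of degree at most 252. -/
theorem deg_small {ξ : IrrCharacter G} (hne : ξ ≠ Blocks.trivIrr G) (hd : deg ξ ≤ 252) :
    deg ξ ∈ [12, 22, 45, 230, 231, 252] := by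
  have h := degs_le_252 (deg ξ) (by omega)
  have hdvd : 244823040 % deg ξ = 0 := by
    obtain ⟨n, h1, -, h2⟩ := Char.exists_degree_dvd_card (G := G) ξ.2
    rw [value_one', Nat.cast_inj] at h1
    subst h1
    rw [B23.card_eq] at h2
    exact Nat.mod_eq_zero_of_dvd h2
  simp only [hdvd, ne_eq, not_true_eq_false, decide_false, hg2 ξ, Bool.not_true, Bool.false_or,
    List.contains_iff_mem, List.mem_cons, List.not_mem_nil, or_false] at h ⊢
  have key : deg ξ ≠ 1 ∧ deg ξ ≠ 11 := by
    by_contra hc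
    have h23 : ¬ 23 ∣ deg ξ := by omega
    rcases List.mem_append.mp (B23.mem_of_not_dvd rfl hne h23) with h' | h'
    · have := hx23 ξ h'
      simp only [E3.xs23, List.mem_cons, List.not_mem_nil, or_false] at this
      rcases B23.σ_unit h' with e | e <;> rw [e] at this <;> omega
    · have := (B23.yl_some y rfl).2.1 ξ h'
      simp only [E3.ys23, List.mem_cons, List.not_mem_nil, or_false] at hy
      omega
  have := hno ξ
  omega

/-- The values of small characters at an element of order 5 of `N(P₁₁)`. -/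
theorem opts5_small : ∀ k ∈ ks5, (E3.opts5 k 12).all (· == 2) = true ∧ (E3.opts5 k 22).all (· == 2) = true ∧
    (E3.opts5 k 45).all (· == 0) = true := by
  decide +kernel

variable {xs11 : List ℤ} (B11 : Blk G 11 ⟨11, 1, 10, xs11, none⟩) (hres : E3.Res11 B11) {k5 : ℕ} {q5 : List ℤ}
  (B5 : Blk G 5 ⟨5, k5, 4, q5, none⟩) (hk5 : k5 ∈ ks5)

include hres B5 hk5 in
theorem value_five {h : G} (hh : orderOf h = 5)
    (hN : h ∈ Subgroup.normalizer ((B11.T.P : Subgroup G) : Set G)) {ξ : IrrCharacter G}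
    (hne : ξ ≠ Blocks.trivIrr G) :
    (deg ξ = 12 → (ξ : G → ℂ) h = 2) ∧ (deg ξ = 22 → (ξ : G → ℂ) h = 2) ∧ (deg ξ = 45 → (ξ : G → ℂ) h = 0) := by
  have hP : h ∉ (B11.T.P : Subgroup G) := fun hm => by
    have h' := Subgroup.orderOf_dvd_natCard _ hm
    rw [hh, B11.T.card_P] at h'
    norm_num at h'
  obtain ⟨e, hmem⟩ := E3.iv_mem_opts5 B11 hne hres B5 B5.e_eq hh hN hP
  obtain ⟨o1, o2, o3⟩ := opts5_small k5 hk5
  simp only [List.all_eq_true, beq_iff_eq] at o1 o2 o3
  refine ⟨fun hd => ?_, fun hd => ?_, fun hd => ?_⟩ <;> rw [hd] at hmem <;> rw [e]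
  · rw [o1 _ hmem]; norm_num
  · rw [o2 _ hmem]; norm_num
  · rw [o3 _ hmem]; norm_num

include hx23 hy hg2 hno hres B5 hk5 in
/-- **No character of degree 12.** -/
theorem no_twelve (he11 : B11.T.D.e = 10) (χ : IrrCharacter G) : deg χ ≠ 12 := by
  intro hd
  obtain ⟨h, hh, hN, -⟩ := E3.exists_five_nor B11 he11
  have hh2 : orderOf (h * h) = 5 := by
    rw [← pow_two, orderOf_pow' h (by norm_num : 2 ≠ 0), hh]
    norm_num
  have hne : χ ≠ Blocks.trivIrr G := fun e => by rw [e, deg_triv] at hd; norm_num at hd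
  have v1 := (value_five B11 hres B5 hk5 hh hN hne).1 hd
  have v2 := (value_five B11 hres B5 hk5 hh2 (mul_mem hN hN) hne).1 hd
  obtain ⟨φ, hφ⟩ : ∃ φ : G → ℂ, φ = fun g => ((χ : G → ℂ) g * (χ : G → ℂ) g - (χ : G → ℂ) (g * g)) / 2 := ⟨_, rfl⟩
  have hc : IsCharacter G φ := hφ ▸ Char.isCharacter_altSquare (Char.isCharacter_of_isIrr χ.2)
  have h1 : φ 1 = 66 := by simp only [hφ, mul_one, value_one', hd]; norm_num
  have hv : φ h = 1 := by simp only [hφ, v1, v2]; norm_num
  obtain ⟨m, hm⟩ := Char.exists_multiplicities hc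
  have hterm : ∀ g : G, φ g = ∑ ξ : IrrCharacter G, (m ξ : ℂ) * (ξ : G → ℂ) g := fun g => by
    rw [hm]; simp [Finset.sum_apply]
  -- the principal character occurs at most once
  have ht : m (Blocks.trivIrr G) ≤ 1 := by
    have e : (m (Blocks.trivIrr G) : ℂ) =
        (classInner (χ : G → ℂ) (fun g => conj ((χ : G → ℂ) g)) - Char.indicator (χ : G → ℂ)) / 2 := by
      rw [← inner_alt χ, ← hφ, hm, show (fun _ : G => (1 : ℂ)) = ((Blocks.trivIrr G : IrrCharacter G) : G → ℂ) from
        funext fun g => by simp [Blocks.trivIrr], Char.classInner_sum_smul_irr]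
    rw [Char.classInner_conj_cases χ.2] at e
    rcases Char.indicator_cases χ.2 with ⟨hr, hi | hi⟩ | ⟨⟨g, hg⟩, hi⟩
    · rw [if_pos hr, hi] at e
      norm_num at e
      omega
    · rw [if_pos hr, hi] at e
      norm_num at e
      omega
    · rw [if_neg fun hr => hg (hr g), hi] at e
      norm_num at e
      omega
  -- every other constituent
  have hrest : ∀ ξ : IrrCharacter G, ξ ≠ Blocks.trivIrr G → m ξ ≠ 0 →
      (deg ξ = 12 ∧ (ξ : G → ℂ) h = 2) ∨ (deg ξ = 22 ∧ (ξ : G → ℂ) h = 2) ∨ (deg ξ = 45 ∧ (ξ : G → ℂ) h = 0) := by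
    intro ξ hξ hm0
    have hle : deg ξ ≤ 66 := by
      have hsum : ((66 : ℕ) : ℂ) = ((∑ η : IrrCharacter G, m η * deg η : ℕ) : ℂ) := by
        push_cast
        rw [← h1, hterm]
        simp [value_one']
      rw [Nat.cast_inj] at hsum
      have := Finset.single_le_sum (f := fun η : IrrCharacter G => m η * deg η) (fun _ _ => Nat.zero_le _)
        (Finset.mem_univ ξ)
      have : 1 * deg ξ ≤ m ξ * deg ξ := Nat.mul_le_mul_right _ (Nat.pos_of_ne_zero hm0)
      simp only at *
      omega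
    have hmem := deg_small B23 hx23 hy hg2 hno hξ (by omega)
    simp only [List.mem_cons, List.not_mem_nil, or_false] at hmem
    obtain ⟨a, b, c⟩ := value_five B11 hres B5 hk5 hh hN hξ
    rcases hmem with e | e | e | e | e | e
    · exact Or.inl ⟨e, a e⟩
    · exact Or.inr (Or.inl ⟨e, b e⟩)
    · exact Or.inr (Or.inr ⟨e, c e⟩)
    all_goals omega
  obtain ⟨A, hA⟩ : ∃ A, A = ∑ ξ ∈ (Finset.univ : Finset (IrrCharacter G)).erase (Blocks.trivIrr G),
      if deg ξ = 12 then m ξ else 0 := ⟨_, rfl⟩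
  obtain ⟨B, hB⟩ : ∃ B, B = ∑ ξ ∈ (Finset.univ : Finset (IrrCharacter G)).erase (Blocks.trivIrr G),
      if deg ξ = 22 then m ξ else 0 := ⟨_, rfl⟩
  obtain ⟨C, hC⟩ : ∃ C, C = ∑ ξ ∈ (Finset.univ : Finset (IrrCharacter G)).erase (Blocks.trivIrr G),
      if deg ξ = 45 then m ξ else 0 := ⟨_, rfl⟩
  have e1 : (66 : ℂ) = ((m (Blocks.trivIrr G) + 12 * A + 22 * B + 45 * C : ℕ) : ℂ) := by
    rw [← h1, hterm, ← Finset.add_sum_erase _ _ (Finset.mem_univ (Blocks.trivIrr G)), hA, hB, hC]
    push_cast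
    rw [Finset.mul_sum, Finset.mul_sum, Finset.mul_sum, add_assoc, add_assoc, ← Finset.sum_add_distrib,
      ← Finset.sum_add_distrib]
    congr 1
    · rw [value_one', deg_triv]; push_cast; ring
    · refine Finset.sum_congr rfl fun ξ hξ => ?_
      by_cases hm0 : m ξ = 0
      · simp [hm0]
      rcases hrest ξ (Finset.ne_of_mem_erase hξ) hm0 with ⟨e, -⟩ | ⟨e, -⟩ | ⟨e, -⟩ <;>
        rw [value_one', e] <;> norm_num <;> ring
  have e2 : (1 : ℂ) = ((m (Blocks.trivIrr G) + 2 * A + 2 * B : ℕ) : ℂ) := by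
    rw [← hv, hterm, ← Finset.add_sum_erase _ _ (Finset.mem_univ (Blocks.trivIrr G)), hA, hB]
    push_cast
    rw [Finset.mul_sum, Finset.mul_sum, add_assoc, ← Finset.sum_add_distrib]
    congr 1
    · simp [Blocks.trivIrr]
    · refine Finset.sum_congr rfl fun ξ hξ => ?_
      by_cases hm0 : m ξ = 0
      · simp [hm0]
      rcases hrest ξ (Finset.ne_of_mem_erase hξ) hm0 with ⟨e, e'⟩ | ⟨e, e'⟩ | ⟨e, e'⟩ <;>
        rw [e', e] <;> norm_num <;> ring
  have n1 : 66 = m (Blocks.trivIrr G) + 12 * A + 22 * B + 45 * C := by exact_mod_cast e1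
  have n2 : 1 = m (Blocks.trivIrr G) + 2 * A + 2 * B := by exact_mod_cast e2
  omega

include hx23 hy hg2 hno hres B5 hk5 in
/-- **The values of the small characters at `P₂₃`.** -/
theorem smallAt (he11 : B11.T.D.e = 10) {v : G} (hv : v ∈ (B23.T.P : Subgroup G)) (hv1 : v ≠ 1) :
    SmallAt v := by
  intro ξ hne hd
  have hmem := deg_small B23 hx23 hy hg2 hno hne hd
  have h12 := no_twelve B23 hx23 hy hg2 hno B11 hres B5 hk5 he11 ξ
  simp only [List.mem_cons, List.not_mem_nil, or_false] at hmem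
  have hin : deg ξ % 23 ≠ 0 → (ξ : G → ℂ) v = (B23.σ ξ : ℂ) ∧ B23.σ ξ * (deg ξ : ℤ) ∈ E3.xs23 ∧
      (B23.σ ξ = 1 ∨ B23.σ ξ = -1) := by
    intro h
    rcases List.mem_append.mp (B23.mem_of_not_dvd rfl hne (by omega)) with h' | h'
    · exact ⟨B23.value_P h' hv hv1, hx23 ξ h', B23.σ_unit h'⟩
    · exfalso
      have := (B23.yl_some y rfl).2.1 ξ h'
      simp only [E3.ys23, List.mem_cons, List.not_mem_nil, or_false] at hy
      omega
  have hout : deg ξ = 230 → (ξ : G → ℂ) v = 0 := fun e => by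
    refine B23.out rfl (fun hm => ?_) hv hv1
    rcases List.mem_cons.mp hm with hm | hm
    · exact hne hm
    · exact B23.not_dvd ξ hm (by rw [e]; norm_num)
  rcases hmem with e | e | e | e | e | e
  · exact absurd e h12
  · obtain ⟨hv', hx, hu⟩ := hin (by omega)
    refine Or.inl ⟨e, ?_⟩
    simp only [E3.xs23, List.mem_cons, List.not_mem_nil, or_false, e] at hx
    rcases hu with u | u <;> rw [hv', u] <;> [(rw [u] at hx; omega); norm_num]
  · obtain ⟨hv', hx, hu⟩ := hin (by omega)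
    refine Or.inr (Or.inl ⟨e, ?_⟩)
    simp only [E3.xs23, List.mem_cons, List.not_mem_nil, or_false, e] at hx
    rcases hu with u | u <;> rw [hv', u] <;> [(rw [u] at hx; omega); norm_num]
  · exact Or.inr (Or.inr (Or.inl ⟨e, hout e⟩))
  · obtain ⟨hv', hx, hu⟩ := hin (by omega)
    refine Or.inr (Or.inr (Or.inr (Or.inl ⟨e, ?_⟩)))
    simp only [E3.xs23, List.mem_cons, List.not_mem_nil, or_false, e] at hx
    rcases hu with u | u <;> rw [hv', u] <;> [norm_num; (rw [u] at hx; omega)]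
  · obtain ⟨hv', hx, hu⟩ := hin (by omega)
    refine Or.inr (Or.inr (Or.inr (Or.inr ⟨e, ?_⟩)))
    simp only [E3.xs23, List.mem_cons, List.not_mem_nil, or_false, e] at hx
    rcases hu with u | u <;> rw [hv', u] <;> [(rw [u] at hx; omega); norm_num]

end CfsgLib.M24Order.E6
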