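import Cfsg.Agent.Lib.M24Order.Setup4
import Cfsg.Agent.Lib.M24Order.E6.Small

/-!
# Simple groups of order 244823040: the members of the blocks, for `|N(P₇) : C(P₇)| = 6`

One member of the principal block for 7 has degree prime to 23: 22 or 3520 (the list with two members of degree
6336 has too large a sum of squares). The other five members have degree divisible by 23.
-/

set_option autoImplicit false
set_option linter.unusedSectionVars false
set_option linter.style.haveILetI false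
set_option maxHeartbeats 1000000

namespace CfsgLib.M24Order.E6

open Cfsg
open scoped ComplexConjugate CfsgLib.Char
open CfsgLib CfsgLib.BrauerTuan CfsgLib.OrderBlocks CfsgLib.M24Order
open scoped _root_.Classical

universe u

variable {G : Type u} [Group G] [Fintype G] [IsSimpleGroup G]
  [Fact (Nat.Prime 5)] [Fact (Nat.Prime 7)] [Fact (Nat.Prime 11)] [Fact (Nat.Prime 23)]

/-- The members of the four blocks. -/
structure Members (G : Type u) [Group G] [Fintype G] [IsSimpleGroup G] (k5 k7 : ℕ) where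
  hk5 : k5 ∈ ks5
  B5 : Blk G 5 ⟨5, k5, 4, [1771, -2024, -5544, 5796], none⟩
  r7 : List ℤ
  B7 : Blk G 7 ⟨7, k7, 6, r7, none⟩
  xs11 : List ℤ
  B11 : Blk G 11 ⟨11, 1, 10, xs11, none⟩
  xs23' : List ℤ
  y : ℤ
  B23 : Blk G 23 ⟨23, 1, 11, xs23', some y⟩
  res11 : E3.Res11 B11
  a : IrrCharacter G
  b : IrrCharacter G
  c : IrrCharacter G
  d : IrrCharacter G
  cm : IrrCharacter G
  cs : List (IrrCharacter G)
  ψ : IrrCharacter G
  ψ' : IrrCharacter G
  ms : List (IrrCharacter G)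
  xl5 : B5.xl = [a, b, c, d]
  xl23 : B23.xl.Perm (c :: cs)
  yl23 : B23.yl = [ψ, ψ']
  xl11 : B11.xl.Perm (d :: ((cs ++ [ψ, ψ']).filter (fun χ => decide (E3.delta (deg χ) ≠ 0)) ++ ms))
  nd : (Blocks.trivIrr G :: ([a, b, c, d] ++ (cs ++ [ψ, ψ']) ++ ms)).Nodup
  sa : B5.σ a = 1 ∧ deg a = 1771
  sb : B5.σ b = -1 ∧ b ∈ B7.xl ∧ B7.σ b = 1 ∧ deg b = 2024
  sc : B5.σ c = -1 ∧ B23.σ c = 1 ∧ deg c = 5544
  sd : B5.σ d = 1 ∧ B11.σ d = -1 ∧ deg d = 5796
  cm_cs : cm ∈ cs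
  cm7 : cm ∈ B7.xl
  len7 : B7.xl.length = 6
  others : ∀ χ ∈ B7.xl, χ ≠ cm → χ ∉ cs ++ [ψ, ψ']
  kind : (B23.σ cm * (deg cm : ℤ) = -22 ∧ B7.σ cm = 1 ∧ ∀ χ ∈ B7.xl, deg χ = 22 → χ = cm) ∨
    (B23.σ cm * (deg cm : ℤ) = 3520 ∧ B7.σ cm = -1)
  hk7 : (deg cm = 22 ∧ k7 ∈ [192, 24, 3]) ∨ (deg cm = 3520 ∧ k7 ∈ [24, 3])
  len : cs.length = 9
  mem23 : ∀ χ ∈ cs, B23.σ χ * (deg χ : ℤ) ∈ E3.xs23
  memy : y ∈ E3.ys23
  sum23 : y = 1 + 5544 + (cs.map fun χ => B23.σ χ * (deg χ : ℤ)).sum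
  memM : ∀ χ ∈ ms, B11.σ χ * (deg χ : ℤ) ∈ E3.free11
  lenM : ((cs ++ [ψ, ψ']).filter (fun χ => decide (E3.delta (deg χ) ≠ 0))).length + ms.length = 9
  no23 : ∀ ξ : IrrCharacter G, deg ξ ≠ 23
  g2' : ∀ ξ : IrrCharacter G, g2 (deg ξ) = true

theorem Members.σ11 {k5 k7 : ℕ} (M : Members G k5 k7) {χ : IrrCharacter G} (hχ : χ ∈ M.B11.xl) :
    M.B11.σ χ = E3.delta (deg χ) :=
  (E3.delta_mul (M.B11.σ_unit hχ) (M.res11 _ ((congrArg (fun l : List ℤ => M.B11.σ χ * (deg χ : ℤ) ∈ l)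
    M.B11.xs_eq).mpr (List.mem_map.mpr ⟨χ, hχ, rfl⟩)))).symm

/-- The lists for `7`: the members of degree prime to 23. -/
theorem six7_facts : ∀ r ∈ six7, r.2.length = 6 ∧
    (((r.2.filter fun x => decide (x.natAbs % 23 ≠ 0)) = [22] ∧ ∀ k ∈ r.1, k ∈ [192, 24, 3]) ∨
      ((r.2.filter fun x => decide (x.natAbs % 23 ≠ 0)) = [-3520] ∧ ∀ k ∈ r.1, k ∈ [24, 3]) ∨
      (244823040 : ℤ) < 1 + 1771 * 1771 + 5544 * 5544 + 5796 * 5796 + (r.2.map fun x => x * x).sum) := by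
  decide +kernel

/-- **The members of the blocks, if no character has degree 23.** -/
theorem exists_members (hdegs : E3.checkDegs = true) (T23 : Ctx G 23 1) (he23 : T23.D.e = 11) (T11 : Ctx G 11 1)
    (he11 : T11.D.e = 10) {k5 k7 : ℕ} (hk5 : k5 ∈ ks5)
    (B5 : Blk G 5 ⟨5, k5, 4, [1771, -2024, -5544, 5796], none⟩) {r : List ℕ × List ℤ} (hr : r ∈ six7)
    (hk : k7 ∈ r.1) (B7 : Blk G 7 ⟨7, k7, 6, r.2, none⟩) {χ : IrrCharacter G} (hχ5 : χ ∈ B5.xl) (hχ7 : χ ∈ B7.xl)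
    (hdeg : deg χ = 2024) (hσ7 : B7.σ χ = 1) (hno : ∀ ξ : IrrCharacter G, deg ξ ≠ 23) :
    Nonempty (Members G k5 k7) := by
  have hn := B5.card_eq
  simp only [E3.checkDegs, Bool.and_eq_true, List.all_eq_true, List.contains_iff_mem, Bool.or_eq_true,
    decide_eq_true_eq] at hdegs
  obtain ⟨⟨hX23, hY23⟩, hX11⟩ := hdegs
  have hc11 : 1 + T11.D.n * 11 = 2225664 := by
    have h := T11.D.card_G
    rw [T11.card_C, he11, T11.card_eq] at h
    omega
  have hc23 : 1 + T23.D.n * 23 = 967680 := by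
    have h := T23.D.card_G
    rw [T23.card_C, he23, T23.card_eq] at h
    omega
  obtain ⟨xs, y', hf, ⟨B11⟩⟩ := exists_blk T11 he11 hc11 kp2 fun φ _ _ s hs => kp2_of he23 he11 hs φ
  obtain ⟨rfl, hlen11, -⟩ := hf.one (by norm_num)
  have hres : E3.Res11 B11 := fun x hx => fastX_mod (List.mem_filter.mp (hf.mem x hx)).1
  obtain ⟨xs3, y3, hf3, ⟨B23⟩⟩ := exists_blk T23 he23 hc23 kp2 fun φ _ _ s hs => kp2_of he23 he11 hs φ
  obtain ⟨y, rfl, hy, hlen23, hys⟩ := hf3.more (by norm_num)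
  have hx23 : ∀ φ ∈ B23.xl, B23.σ φ * (deg φ : ℤ) ∈ E3.xs23 := fun φ hφ => hX23 _ (hf3.mem _
    ((congrArg (fun l : List ℤ => B23.σ φ * (deg φ : ℤ) ∈ l) B23.xs_eq).mpr (List.mem_map.mpr ⟨φ, hφ, rfl⟩)))
  have hx11 : ∀ φ ∈ B11.xl, B11.σ φ * (deg φ : ℤ) ∈ xs := fun φ hφ =>
    (congrArg (fun l : List ℤ => B11.σ φ * (deg φ : ℤ) ∈ l) B11.xs_eq).mpr (List.mem_map.mpr ⟨φ, hφ, rfl⟩)
  have hyd : y ∈ E3.ys23 := hY23 y hy
  -- the block for 5
  obtain ⟨a, l1, hl5, ha, h1⟩ := List.map_eq_cons_iff.mp (B5.xs_eq.symm : B5.xl.map _ = _)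
  obtain ⟨b, l2, rfl, hb, h2⟩ := List.map_eq_cons_iff.mp h1
  obtain ⟨c, l3, rfl, hc, h3⟩ := List.map_eq_cons_iff.mp h2
  obtain ⟨d, l4, rfl, hd, h4⟩ := List.map_eq_cons_iff.mp h3
  obtain rfl := List.map_eq_nil_iff.mp h4
  obtain ⟨sa1, sa2⟩ := E3.sgn_deg B5 (hl5 ▸ by simp) ha
  obtain ⟨sb1, sb2⟩ := E3.sgn_deg B5 (hl5 ▸ by simp) hb
  obtain ⟨sc1, sc2⟩ := E3.sgn_deg B5 (hl5 ▸ by simp) hc
  obtain ⟨sd1, sd2⟩ := E3.sgn_deg B5 (hl5 ▸ by simp) hd
  norm_num [sgn] at sa1 sa2 sb1 sb2 sc1 sc2 sd1 sd2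
  have hχb : χ = b := by
    rw [hl5] at hχ5
    simp only [List.mem_cons, List.not_mem_nil, or_false] at hχ5
    rcases hχ5 with rfl | h | rfl | rfl <;> first | exact h | omega
  subst hχb
  -- the block for 7
  obtain ⟨hlen7, hcase⟩ := six7_facts r hr
  have hxl7 : B7.xl.length = 6 := by
    rw [← List.length_map (f := fun φ => B7.σ φ * (deg φ : ℤ)), ← B7.xs_eq]
    exact hlen7
  have e7 : r.2 = B7.xl.map fun φ => B7.σ φ * (deg φ : ℤ) := B7.xs_eq
  have hnd7x : B7.xl.Nodup := (List.nodup_append.mp (List.nodup_cons.mp B7.nodup).2).1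
  have h7n : ∀ φ ∈ B7.xl, ¬ 7 ∣ deg φ := fun φ hφ => B7.not_dvd φ (List.mem_append_left _ hφ)
  have hbig : ¬ (244823040 : ℤ) < 1 + 1771 * 1771 + 5544 * 5544 + 5796 * 5796 + (r.2.map fun x => x * x).sum := by
    have hnd : (Blocks.trivIrr G :: a :: c :: d :: B7.xl).Nodup := by
      have ntr : ∀ φ : IrrCharacter G, deg φ ≠ 1 → Blocks.trivIrr G ≠ φ := fun φ h e => h (e ▸ deg_triv)
      simp only [List.nodup_cons, List.mem_cons, not_or]
      refine ⟨⟨ntr a (by omega), ntr c (by omega), ntr d (by omega), fun h => ?_⟩, ⟨?_, ?_, fun h => h7n a h (by omega)⟩,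
        ⟨?_, fun h => h7n c h (by omega)⟩, fun h => h7n d h (by omega), hnd7x⟩
      · exact B7.ne_triv (List.mem_append_left _ h) rfl
      all_goals intro e; have := congrArg deg e; omega
    have hs := sum_sq_le hnd (g := (1 : G)) fun φ _ => by rw [iv_one, value_one']; push_cast; rfl
    simp only [List.map_cons, List.sum_cons, iv_one, deg_triv, sa2, sc2, sd2, cC_one hn] at hs
    rw [e7, List.map_map, List.map_congr_left (g := fun φ => ((deg φ : ℤ) * (deg φ : ℤ))) fun φ hφ => by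
      simp only [Function.comp_apply]
      rcases B7.σ_unit hφ with e | e <;> rw [e] <;> ring]
    push_cast at hs
    linarith
  have hcase' : ∃ x ∈ [(22 : ℤ), -3520], (r.2.filter fun x => decide (x.natAbs % 23 ≠ 0)) = [x] ∧
      ((x = 22 ∧ k7 ∈ [192, 24, 3]) ∨ (x = -3520 ∧ k7 ∈ [24, 3])) := by
    rcases hcase with ⟨h, h'⟩ | ⟨h, h'⟩ | h
    · exact ⟨22, by simp, h, Or.inl ⟨rfl, h' k7 hk⟩⟩
    · exact ⟨-3520, by simp, h, Or.inr ⟨rfl, h' k7 hk⟩⟩
    · exact absurd h hbig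
  obtain ⟨x, hx, hfil, hxk⟩ := hcase'
  have hfil' : (B7.xl.filter fun φ => decide (deg φ % 23 ≠ 0)).map (fun φ => B7.σ φ * (deg φ : ℤ)) = [x] := by
    have h := congrArg (List.filter fun x : ℤ => decide (x.natAbs % 23 ≠ 0)) e7
    rw [hfil, List.filter_map] at h
    rw [h]
    refine congrArg _ (List.filter_congr fun φ hφ => ?_)
    simp only [Function.comp_apply, (B7.sgn_eq hφ).2]
  obtain ⟨cm, lcm', hcml, hcmx, hnil⟩ := List.map_eq_cons_iff.mp hfil'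
  obtain rfl := List.map_eq_nil_iff.mp hnil
  have hcm7 : cm ∈ B7.xl := (List.mem_filter.mp (hcml ▸ List.mem_singleton_self cm)).1
  have hcm23 : deg cm % 23 ≠ 0 := of_decide_eq_true
    (List.mem_filter.mp (hcml ▸ List.mem_singleton_self cm : cm ∈ B7.xl.filter _)).2
  have hcmu : ∀ φ ∈ B7.xl, deg φ % 23 ≠ 0 → φ = cm := fun φ hφ h => by
    have : φ ∈ B7.xl.filter fun φ => decide (deg φ % 23 ≠ 0) := List.mem_filter.mpr ⟨hφ, by simpa using h⟩
    rw [hcml] at this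
    exact List.mem_singleton.mp this
  obtain ⟨hcs7, hcd⟩ := E3.sgn_deg B7 hcm7 hcmx
  simp only [List.mem_cons, List.not_mem_nil, or_false] at hx
  have hcdeg : (deg cm = 22 ∧ B7.σ cm = 1) ∨ (deg cm = 3520 ∧ B7.σ cm = -1) := by
    rcases hx with rfl | rfl
    · exact Or.inl ⟨by rw [hcd]; rfl, by rw [hcs7]; rfl⟩
    · exact Or.inr ⟨by rw [hcd]; rfl, by rw [hcs7]; rfl⟩
  -- the block for 23
  obtain ⟨hyl, hyd23, -⟩ := B23.yl_some y rfl
  obtain ⟨ψ, ψ', hψ⟩ := List.length_eq_two.mp (hyl.trans (by simp [Opt.t]))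
  have hyb : y.natAbs ≠ 5544 ∧ y.natAbs ≠ 22 ∧ y.natAbs ≠ 3520 ∧ y.natAbs ≠ 1 := by
    simp only [E3.ys23, List.mem_cons, List.not_mem_nil, or_false] at hyd
    omega
  have ntriv : ∀ φ : IrrCharacter G, deg φ ≠ 1 → φ ≠ Blocks.trivIrr G := fun φ h e => h (e ▸ deg_triv)
  have hin : ∀ φ : IrrCharacter G, deg φ = 5544 ∨ deg φ = 22 ∨ deg φ = 3520 → φ ∈ B23.xl := fun φ h => by
    rcases List.mem_append.mp (B23.mem_of_not_dvd rfl (ntriv φ (by omega)) (by omega)) with h' | h'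
    · exact h'
    · have := hyd23 φ h'; omega
  have hcin := hin c (Or.inl sc2)
  have hcmin : cm ∈ B23.xl := hin cm (by rcases hcdeg with ⟨e, -⟩ | ⟨e, -⟩ <;> simp [e])
  have hs23 : ∀ φ ∈ B23.xl, (deg φ = 5544 → B23.σ φ = 1) ∧ (deg φ = 22 → B23.σ φ = -1) ∧
      (deg φ = 3520 → B23.σ φ = 1) := fun φ hφ => by
    have hx := hx23 φ hφ
    simp only [E3.xs23, List.mem_cons, List.not_mem_nil, or_false] at hx
    refine ⟨fun e => ?_, fun e => ?_, fun e => ?_⟩ <;> rw [e] at hx <;>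
      rcases B23.σ_unit hφ with u | u <;> rw [u] at hx <;> first | exact u | omega
  have hnd23 := B23.nodup
  rw [hψ, List.nodup_cons, List.nodup_append] at hnd23
  obtain ⟨htriv23, hnx, hny, hdis⟩ := hnd23
  obtain ⟨cs, hcs⟩ : ∃ cs, cs = B23.xl.filter fun φ => decide (φ ≠ c) := ⟨_, rfl⟩
  have hcsm : ∀ φ, φ ∈ cs ↔ φ ∈ B23.xl ∧ φ ≠ c := fun φ => by simp [hcs]
  have hperm : B23.xl.Perm (c :: cs) := by
    refine (List.perm_ext_iff_of_nodup hnx ?_).mpr fun φ => ?_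
    · rw [List.nodup_cons]
      exact ⟨fun h => ((hcsm c).mp h).2 rfl, hcs ▸ hnx.filter _⟩
    · simp only [List.mem_cons, hcsm]
      constructor
      · intro h; by_cases e1 : φ = c <;> simp [h, e1]
      · rintro (rfl | h) <;> [exact hcin; exact h.1]
  have hlen : cs.length = 9 := by
    have h := hperm.length_eq
    rw [show B23.xl.length = 10 by
      rw [← List.length_map (f := fun φ => B23.σ φ * (deg φ : ℤ)), ← B23.xs_eq]; exact hlen23] at h
    simp only [List.length_cons] at h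
    omega
  have hnd7 : ∀ φ ∈ cs ++ [ψ, ψ'], ¬ 23 ∣ deg φ := fun φ hφ => by
    refine B23.not_dvd φ ?_
    rw [hψ]
    rcases List.mem_append.mp hφ with h | h
    · exact List.mem_append_left _ ((hcsm φ).mp h).1
    · exact List.mem_append_right _ h
  have hnd23' : (cs ++ [ψ, ψ']).Nodup := List.nodup_append.mpr
    ⟨hcs ▸ hnx.filter _, hny, fun x hx y' hy' => hdis x ((hcsm x).mp hx).1 y' hy'⟩
  -- the block for 11
  have hdin : d ∈ B11.xl := by
    have h := B11.mem_of_not_dvd rfl (ntriv d (by omega)) (by omega)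
    rwa [B11.yl_none rfl, List.append_nil] at h
  have hσ11 : ∀ φ ∈ B11.xl, B11.σ φ = E3.delta (deg φ) := fun φ hφ =>
    (E3.delta_mul (B11.σ_unit hφ) (hres _ (hx11 φ hφ))).symm
  have hnd11 : B11.xl.Nodup := (List.nodup_append.mp (List.nodup_cons.mp B11.nodup).2).1
  have hn11 : ∀ φ ∈ B11.xl, ¬ 11 ∣ deg φ := fun φ hφ => B11.not_dvd φ (List.mem_append_left _ hφ)
  obtain ⟨fx, hfx⟩ : ∃ l, l = (cs ++ [ψ, ψ']).filter fun φ => decide (E3.delta (deg φ) ≠ 0) := ⟨_, rfl⟩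
  have hfxm : ∀ φ, φ ∈ fx → φ ∈ B11.xl := fun φ hφ => by
    rw [hfx, List.mem_filter, decide_eq_true_eq] at hφ
    have h11 : ¬ 11 ∣ deg φ := fun h => hφ.2 (E3.delta_zero h)
    have hne : φ ≠ Blocks.trivIrr G := fun e => htriv23 (by
      rw [← e]
      rcases List.mem_append.mp hφ.1 with h | h
      · exact List.mem_append_left _ ((hcsm φ).mp h).1
      · exact List.mem_append_right _ h)
    have h := B11.mem_of_not_dvd rfl hne h11
    rwa [B11.yl_none rfl, List.append_nil] at h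
  obtain ⟨ms, hms⟩ : ∃ l, l = B11.xl.filter fun φ => decide (φ ≠ d ∧ φ ∉ cs ++ [ψ, ψ']) := ⟨_, rfl⟩
  have hmsm : ∀ φ, φ ∈ ms ↔ φ ∈ B11.xl ∧ φ ≠ d ∧ φ ∉ cs ++ [ψ, ψ'] := fun φ => by simp [hms]
  have hde : ∀ φ ∈ cs ++ [ψ, ψ'], φ ≠ d ∧ φ ≠ a ∧ φ ≠ χ := fun φ hφ => by
    have h := hnd7 φ hφ
    refine ⟨?_, ?_, ?_⟩ <;> rintro rfl <;> omega
  have hp11 : B11.xl.Perm (d :: (fx ++ ms)) := by
    refine (List.perm_ext_iff_of_nodup hnd11 ?_).mpr fun φ => ?_
    · simp only [List.nodup_cons, List.mem_append, not_or]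
      refine ⟨⟨fun h => ?_, fun h => ((hmsm d).mp h).2.1 rfl⟩,
        List.nodup_append.mpr ⟨hfx ▸ hnd23'.filter _, hms ▸ hnd11.filter _, fun x hx y' hy' e => ?_⟩⟩
      · exact (hde d (List.mem_filter.mp (hfx ▸ h)).1).1 rfl
      · exact ((hmsm y').mp hy').2.2 (e ▸ (List.mem_filter.mp (hfx ▸ hx)).1)
    · simp only [List.mem_cons, List.mem_append]
      constructor
      · intro h
        by_cases e1 : φ = d; · exact Or.inl e1
        by_cases e3 : φ ∈ cs ++ [ψ, ψ']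
        · refine Or.inr (Or.inl (hfx ▸ List.mem_filter.mpr ⟨e3, decide_eq_true ?_⟩))
          intro h0
          rcases B11.σ_unit h with u | u <;> rw [hσ11 φ h, h0] at u <;> norm_num at u
        · exact Or.inr (Or.inr ((hmsm φ).mpr ⟨h, e1, e3⟩))
      · rintro (rfl | h | h) <;> [exact hdin; exact hfxm φ h; exact ((hmsm φ).mp h).1]
  have hmsd : ∀ φ ∈ ms, 23 ∣ deg φ ∧ φ ≠ a ∧ φ ≠ χ ∧ φ ≠ c := fun φ hφ => by
    obtain ⟨h, -, h4⟩ := (hmsm φ).mp hφ
    have h11 := hn11 φ h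
    have hc' : φ ≠ a ∧ φ ≠ χ ∧ φ ≠ c := by
      refine ⟨?_, ?_, ?_⟩ <;> rintro rfl <;> omega
    refine ⟨?_, hc'⟩
    by_contra h23
    rcases List.mem_append.mp (B23.mem_of_not_dvd rfl (B11.ne_triv (List.mem_append_left _ h)) h23) with h' | h'
    · exact h4 (List.mem_append_left _ ((hcsm φ).mpr ⟨h', hc'.2.2⟩))
    · exact h4 (List.mem_append_right _ (hψ ▸ h'))
  have sd11 : B11.σ d = -1 := by rw [hσ11 d hdin, sd2]; decide
  refine ⟨⟨hk5, B5, r.2, B7, xs, B11, xs3, y, B23, hres, a, χ, c, d, cm, cs, ψ, ψ', ms, hl5, hperm, hψ,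
    hfx ▸ hp11, ?_, ⟨sa1, sa2⟩, ⟨sb1, hχ7, hσ7, sb2⟩, ⟨sc1, (hs23 c hcin).1 sc2, sc2⟩, ⟨sd1, sd11, sd2⟩,
    (hcsm cm).mpr ⟨hcmin, fun e => by rw [e] at hcdeg; omega⟩, hcm7, hxl7, ?_, ?_, ?_, hlen,
    fun φ hφ => hx23 φ ((hcsm φ).mp hφ).1, hyd, ?_, fun φ hφ => ?_, ?_, hno,
    fun ξ => g2_deg T23 he23 T11 he11 ξ⟩⟩
  · -- distinctness
    have h4 : ([a, χ, c, d] : List (IrrCharacter G)).Nodup := by
      simp only [List.nodup_cons, List.mem_cons, List.not_mem_nil, or_false, not_or, List.nodup_nil, and_true,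
        not_false_eq_true]
      refine ⟨⟨?_, ?_, ?_⟩, ⟨?_, ?_⟩, ?_⟩ <;> intro h <;> have := congrArg deg h <;> omega
    refine List.nodup_cons.mpr ⟨?_, List.nodup_append.mpr ⟨List.nodup_append.mpr ⟨h4, hnd23', ?_⟩,
      hms ▸ hnd11.filter _, ?_⟩⟩
    · intro h
      simp only [List.mem_append] at h
      rcases h with (h | h) | h
      · simp only [List.mem_cons, List.not_mem_nil, or_false] at h
        rcases h with h | h | h | h <;> exact ntriv _ (by omega) h.symm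
      · refine htriv23 ?_
        rcases h with h | h
        · exact List.mem_append_left _ ((hcsm _).mp h).1
        · exact List.mem_append_right _ h
      · exact B11.ne_triv (List.mem_append_left _ ((hmsm _).mp h).1) rfl
    · intro x hx z hz e'
      subst e'
      simp only [List.mem_cons, List.not_mem_nil, or_false] at hx
      obtain ⟨n1, n2, n3⟩ := hde x hz
      rcases hx with h | h | h | h
      · exact n2 h
      · exact n3 h
      · subst h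
        rcases List.mem_append.mp hz with hz' | hz'
        · exact ((hcsm _).mp hz').2 rfl
        · have := hyd23 x (hψ ▸ hz'); omega
      · exact n1 h
    · intro x hx z hz e'
      subst e'
      obtain ⟨-, n1, n2⟩ := (hmsm x).mp hz
      obtain ⟨-, m1, m2, m3⟩ := hmsd x hz
      rcases List.mem_append.mp hx with hx | hx
      · simp only [List.mem_cons, List.not_mem_nil, or_false] at hx
        rcases hx with h | h | h | h <;> first | exact m1 h | exact m2 h | exact m3 h | exact n1 h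
      · exact n2 hx
  · intro φ hφ hne hmem
    exact hne (hcmu φ hφ fun h => hnd7 φ hmem (Nat.dvd_of_mod_eq_zero h))
  · rcases hcdeg with ⟨e, s⟩ | ⟨e, s⟩
    · refine Or.inl ⟨by rw [(hs23 cm hcmin).2.1 e, e]; norm_num, s, fun φ hφ h => hcmu φ hφ (by rw [h]; norm_num)⟩
    · refine Or.inr ⟨by rw [(hs23 cm hcmin).2.2 e, e]; norm_num, s⟩
  · rcases hxk with ⟨rfl, hk'⟩ | ⟨rfl, hk'⟩
    · exact Or.inl ⟨hcd.trans rfl, hk'⟩
    · exact Or.inr ⟨hcd.trans rfl, hk'⟩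
  · have h := (hperm.map fun φ => B23.σ φ * (deg φ : ℤ)).sum_eq
    rw [← B23.xs_eq] at h
    simp only [List.map_cons, List.sum_cons, (hs23 c hcin).1 sc2, sc2, one_mul] at h
    push_cast at h
    omega
  · obtain ⟨h23, -⟩ := hmsd φ hφ
    have hin' := ((hmsm φ).mp hφ).1
    have h2 := (B11.sgn_eq hin').2
    rcases hX11 _ (hf.mem _ (hx11 φ hin')) with (h | h) | h
    · rw [h2] at h; omega
    · rw [h2] at h; exact absurd h (hno φ)
    · exact h
  · have h := hp11.length_eq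
    rw [show B11.xl.length = 10 by
      rw [← List.length_map (f := fun φ => B11.σ φ * (deg φ : ℤ)), ← B11.xs_eq]; exact hlen11] at h
    simp only [List.length_cons, List.length_append, hfx] at h
    omega

end CfsgLib.M24Order.E6
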