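import Cfsg.Agent.Lib.M24Order.E6.Col

/-!
# Simple groups of order 244823040, `|N(P₇) : C(P₇)| = 6`: the values in the columns
-/

set_option autoImplicit false
set_option linter.unusedSectionVars false
set_option linter.style.haveILetI false

namespace CfsgLib.M24Order.E6

open Cfsg
open scoped ComplexConjugate CfsgLib.Char
open CfsgLib CfsgLib.BrauerTuan CfsgLib.OrderBlocks CfsgLib.M24Order
open scoped _root_.Classical

universe u

theorem mem_opts7 {k d : ℕ} {A : ℤ} (hd : 0 < d) (hd' : d ≤ 15646) (h : Val7 k d A) : A ∈ opts7 k d := by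
  have hq : ((d / Nat.gcd (E3.order / (7 * k)) d : ℕ) : ℤ) ∣ A := dvd_value hd (Int.dvd_of_emod_eq_zero h.om)
  have hq0 : 0 < d / Nat.gcd (E3.order / (7 * k)) d :=
    Nat.div_pos (Nat.gcd_le_right _ hd) (Nat.gcd_pos_of_pos_right _ hd)
  have hl := le_lim14 (C := 7 * k) (by have := h.sq; push_cast; linarith) (by have := h.lt; omega)
  have := h.lt
  simp only [opts7, forceN_eq, List.mem_filter, Bool.and_eq_true, Bool.or_eq_true, decide_eq_true_eq]
  refine ⟨E3.mem_steps hq (Nat.div_le_div_right (by omega)) hq0, h.cong, ?_⟩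
  by_cases hd7 : d % 7 = 0
  · exact Or.inr (h.zero hd7)
  · exact Or.inl hd7

variable {G : Type u} [Group G] [Fintype G] [IsSimpleGroup G]
  [Fact (Nat.Prime 5)] [Fact (Nat.Prime 7)] [Fact (Nat.Prime 11)] [Fact (Nat.Prime 23)] {k5 k7 : ℕ}
  {M : Members G k5 k7} {rs : List (IrrCharacter G)}

theorem Members.card_G (M : Members G k5 k7) : Nat.card G = 244823040 := M.B5.card_eq

theorem Members.cm_deg (M : Members G k5 k7) :
    (deg M.cm = 22 ∧ M.com = 22 ∧ M.B7.σ M.cm = 1 ∧ M.B23.σ M.cm * (deg M.cm : ℤ) = -22) ∨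
      (deg M.cm = 3520 ∧ M.com = 3520 ∧ M.B7.σ M.cm = -1 ∧ M.B23.σ M.cm * (deg M.cm : ℤ) = 3520) := by
  rcases M.hk7 with ⟨e, -⟩ | ⟨e, -⟩
  · refine Or.inl ⟨e, by rw [Members.com, if_pos e], (M.kind22 e).1, ?_⟩
    rw [(M.kind22 e).2.1, e]; norm_num
  · refine Or.inr ⟨e, by rw [Members.com, if_neg (by rw [e]; norm_num)], ?_⟩
    rcases M.kind with ⟨h, -⟩ | ⟨h, h'⟩
    · rw [e] at h
      rcases M.B23.σ_unit (M.mem_xl23 M.cm_cs) with u | u <;> rw [u] at h <;> norm_num at h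
    · exact ⟨h', h⟩

/-- What the tags mean. -/
theorem Members.tag_cases (M : Members G k5 k7) (χ : IrrCharacter G) :
    M.tag χ = 0 ∨ (M.tag χ = 1 ∧ χ = M.cm ∧ deg M.cm = 22) ∨
      (M.tag χ = 2 ∧ χ = M.alt ∧ deg M.cm = 22) ∨ (M.tag χ = 3 ∧ χ = M.cm ∧ deg M.cm = 3520) := by
  rcases M.cm_deg with ⟨e, -⟩ | ⟨e, -⟩
  · by_cases h1 : χ = M.cm
    · exact Or.inr (Or.inl ⟨by rw [Members.tag, if_pos h1, if_pos e], h1, e⟩)
    · by_cases h2 : χ = M.alt
      · exact Or.inr (Or.inr (Or.inl ⟨by rw [Members.tag, if_neg h1, if_pos h2], h2, e⟩))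
      · exact Or.inl (by rw [Members.tag, if_neg h1, if_neg h2])
  · have ha : M.alt = M.cm := by rw [Members.alt, dif_neg (by rw [e]; norm_num)]
    by_cases h1 : χ = M.cm
    · exact Or.inr (Or.inr (Or.inr ⟨by rw [Members.tag, if_pos h1, if_neg (by rw [e]; norm_num)], h1, e⟩))
    · exact Or.inl (by rw [Members.tag, if_neg h1, if_neg (ha ▸ h1)])

/-- The values of the 22 and of its alternating square, from a value `A` at `g` and `B` at `g²`. -/
theorem Members.alt_iv (h22 : deg M.cm = 22) {g : G} {A B : ℤ} (hA : (M.cm : G → ℂ) g = A)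
    (hB : (M.cm : G → ℂ) (g * g) = B) (hint : (M.alt : G → ℂ) g = iv M.alt g) :
    2 * iv M.alt g = A * A - B := by
  have h := (M.alt_spec h22).2.2.2 g
  rw [hA, hB, hint] at h
  apply Int.cast_injective (α := ℂ)
  push_cast
  linear_combination 2 * h

/-- The values at an involution. -/
theorem Members.mem_opts {χ : IrrCharacter G} (hne : χ ≠ Blocks.trivIrr G) {g : G} (hg : orderOf g = 2)
    {spec : Bool} (hs : spec = true → g ∈ Subgroup.normalizer ((M.B11.T.P : Subgroup G) : Set G)) :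
    iv χ g ∈ opts (cC g) spec (deg χ) := by
  refine List.mem_filter.mpr ⟨E3.iv_mem_opts M.B11 hne M.res11 M.B5 hg hs, ?_⟩
  by_cases h : cC g % 7 = 0 ∧ deg χ % 7 = 0
  · have := seven_dvd M.B7 hg (Nat.dvd_of_mod_eq_zero h.1) (Nat.dvd_of_mod_eq_zero h.2)
    simp [Int.emod_eq_zero_of_dvd this]
  · simp only [not_and] at h
    simp only [Bool.or_eq_true, Bool.not_eq_true', Bool.and_eq_false_iff, decide_eq_false_iff_not,
      decide_eq_true_eq]
    tauto

/-- The values of the entries at an involution. -/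
theorem Members.mem_optsI (hr : M.Adm rs) {χ : IrrCharacter G} (hχ : χ ∈ rs) {g : G} (hg : orderOf g = 2)
    {spec : Bool} (hs : spec = true → g ∈ Subgroup.normalizer ((M.B11.T.P : Subgroup G) : Set G))
    (hz : spec = false → 7 ∣ cC g) : iv χ g ∈ optsI (cC g) spec (M.tent χ) := by
  have hne := M.adm_ne_triv hr hχ
  refine List.mem_filter.mpr ⟨?_, ?_⟩
  · simp only [Members.tent, (M.ent_deg hr hχ).1]
    exact M.mem_opts hne hg hs
  have hgg := mul_self_of_order_two hg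
  simp only [Members.tent]
  have h7 : cC g % 7 = 0 → (iv M.cm g - M.B7.σ M.cm) % 7 = 0 := fun h =>
    Int.emod_eq_zero_of_dvd (seven_sub M.B7 hg (Nat.dvd_of_mod_eq_zero h) M.cm7)
  rcases M.tag_cases χ with e | ⟨e, rfl, h22⟩ | ⟨e, rfl, h22⟩ | ⟨e, rfl, h35⟩ <;> rw [e] <;> simp only [tagI]
  · simp only [Bool.or_eq_true, Bool.not_eq_true', decide_eq_false_iff_not, decide_eq_true_eq]
    by_cases h : cC g % 7 = 0
    · have := h7 h
      rw [(M.kind22 h22).1] at this
      right; omega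
    · exact Or.inl h
  · rw [decide_eq_true_eq]
    have hA := iv_spec M.cm hgg
    have hne' : M.cm ≠ Blocks.trivIrr G := fun e => by rw [e, deg_triv] at h22; norm_num at h22
    obtain ⟨-, f2, -, f4⟩ := iv_facts M.B11.card_eq M.B11.T.noncomm hne' hg
    rw [h22] at f2 f4
    have hval := M.alt_iv h22 (g := g) (B := 22) hA (by rw [hgg, value_one', h22]; norm_num) (iv_spec M.alt hgg)
    obtain ⟨A, hAdef⟩ : ∃ A, A = iv M.cm g := ⟨_, rfl⟩
    rw [← hAdef] at f2 f4 hval
    cases spec with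
    | true =>
      have hb := (E3.bound11 M.B11 M.res11 hne' (hs rfl) (fun hm => by
        have h' := Subgroup.orderOf_dvd_natCard _ hm
        rw [hg, M.B11.T.card_P] at h'
        norm_num at h') hA).1
      rw [h22, show E3.delta 22 = 0 by decide, ← hAdef] at hb
      obtain ⟨b1, b2⟩ := abs_le.mp (show |A| ≤ 2 by omega)
      rcases (show A = 2 ∨ A = -2 by omega) with rfl | rfl <;> simp only [if_true] <;> omega
    | false =>
      have := h7 (Nat.mod_eq_zero_of_dvd (hz rfl))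
      rw [(M.kind22 h22).1, ← hAdef] at this
      obtain rfl : A = -6 := by omega
      simp only [Bool.false_eq_true, if_false]
      omega
  · simp only [Bool.or_eq_true, Bool.not_eq_true', decide_eq_false_iff_not, decide_eq_true_eq]
    by_cases h : cC g % 7 = 0
    · have := h7 h
      rcases M.cm_deg with ⟨e', -⟩ | ⟨-, -, s, -⟩
      · omega
      · rw [s] at this; right; omega
    · exact Or.inl h

/-- An element of order 5: the values of the members of the block for 5. -/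
theorem Members.at5 (M : Members G k5 k7) {h : G} (hh : orderOf h = 5) :
    IntAt h ∧ cC h = 5 * k5 ∧ iv M.a h = 1 ∧ iv M.b h = -1 ∧ iv M.c h = -1 ∧ iv M.d h = 1 := by
  obtain ⟨a, ha⟩ := exists_conj_mem_P M.B5.T hh
  have ha1 : a * h * a⁻¹ ≠ 1 := fun e => by
    rw [mul_inv_eq_one] at e
    rw [mul_eq_left.mp e, orderOf_one] at hh
    omega
  have hval : ∀ χ ∈ M.B5.xl, iv χ h = M.B5.σ χ := fun χ hχ => iv_eq
    ((Char.isClassFunction_of_isCharacter (Char.isCharacter_of_isIrr χ.2) h a).symm.trans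
      (M.B5.value_P hχ ha ha1))
  refine ⟨⟨fun χ => iv_spec_of_int (int_value_five M.B5.T M.B5.e_eq χ hh), by rw [hh]; norm_num⟩,
    cC_of_ctx M.B5.T hh, ?_, ?_, ?_, ?_⟩
  · rw [hval _ (by rw [M.xl5]; simp), M.sa.1]
  · rw [hval _ (by rw [M.xl5]; simp), M.sb.1]
  · rw [hval _ (by rw [M.xl5]; simp), M.sc.1]
  · rw [hval _ (by rw [M.xl5]; simp), M.sd.1]

/-- The values of the entries at an element of order 5 of `N(P₁₁)`. -/
theorem Members.mem_optsY (hr : M.Adm rs) {χ : IrrCharacter G} (hχ : χ ∈ rs) {h : G} (hh : orderOf h = 5)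
    (hN : h ∈ Subgroup.normalizer ((M.B11.T.P : Subgroup G) : Set G)) (hP : h ∉ (M.B11.T.P : Subgroup G)) :
    iv χ h ∈ optsY k5 (M.tent χ) := by
  have hne := M.adm_ne_triv hr hχ
  refine List.mem_filter.mpr ⟨?_, ?_⟩
  · simp only [Members.tent, (M.ent_deg hr hχ).1]
    exact (E3.iv_mem_opts5 M.B11 hne M.res11 M.B5 M.B5.e_eq hh hN hP).2
  simp only [Members.tent]
  have h2 : orderOf (h * h) = 5 := by
    rw [← pow_two, orderOf_pow' h (by norm_num : 2 ≠ 0), hh]; norm_num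
  have h22v : deg M.cm = 22 → (M.cm : G → ℂ) h = ((2 : ℤ) : ℂ) ∧ (M.cm : G → ℂ) (h * h) = ((2 : ℤ) : ℂ) :=
    fun e => by
      have hne' : M.cm ≠ Blocks.trivIrr G := fun e' => by rw [e', deg_triv] at e; norm_num at e
      rw [(value_five M.B11 M.res11 M.B5 M.hk5 hh hN hne').2.1 e,
        (value_five M.B11 M.res11 M.B5 M.hk5 h2 (mul_mem hN hN) hne').2.1 e]
      norm_num
  rcases M.tag_cases χ with e | ⟨e, rfl, h22⟩ | ⟨e, rfl, h22⟩ | ⟨e, rfl, h35⟩ <;> rw [e] <;> simp only [tagY]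
  · rw [iv_eq (h22v h22).1, decide_eq_true_eq]
  · have := M.alt_iv h22 (h22v h22).1 (h22v h22).2 (iv_spec_of_int (int_value_five M.B5.T M.B5.e_eq M.alt hh))
    rw [decide_eq_true_eq]
    omega

/-- An element of order 7: the values of the members of the block for 7. -/
theorem Members.at7 (M : Members G k5 k7) {w : G} (hw : orderOf w = 7) :
    IntAt w ∧ cC w = 7 * k7 ∧ iv M.c w = 0 ∧ ∀ χ ∈ M.B7.xl, (χ : G → ℂ) w = (M.B7.σ χ : ℂ) := by
  obtain ⟨a, ha⟩ := exists_conj_mem_P M.B7.T hw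
  have ha1 : a * w * a⁻¹ ≠ 1 := fun e => by
    rw [mul_inv_eq_one] at e
    rw [mul_eq_left.mp e, orderOf_one] at hw
    omega
  refine ⟨⟨fun χ => iv_spec_of_int (int_value_seven M.B7.T M.B7.e_eq χ hw), by rw [hw]; norm_num⟩,
    cC_of_ctx M.B7.T hw,
    iv_eq (by rw [M.B7.vanish (by rw [M.sc.2.2]; norm_num) (by rw [hw])]; simp), fun χ hχ => ?_⟩
  exact (Char.isClassFunction_of_isCharacter (Char.isCharacter_of_isIrr χ.2) w a).symm.trans
    (M.B7.value_P hχ ha ha1)

/-- The values of the entries at an element of order 7. -/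
theorem Members.mem_optsW (hr : M.Adm rs) {χ : IrrCharacter G} (hχ : χ ∈ rs) {w : G} (hw : orderOf w = 7) :
    iv χ w ∈ optsW k7 (M.tent χ) := by
  have hne := M.adm_ne_triv hr hχ
  refine List.mem_filter.mpr ⟨?_, ?_⟩
  · simp only [Members.tent, (M.ent_deg hr hχ).1]
    exact mem_opts7 (deg_pos χ) (E3.deg_le M.card_G χ) (value_seven M.B7 hne hw).2
  simp only [Members.tent]
  have hv := (M.at7 hw).2.2.2 M.cm M.cm7
  have hw2 : orderOf (w * w) = 7 := by
    rw [← pow_two, orderOf_pow' w (by norm_num : 2 ≠ 0), hw]; norm_num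
  rcases M.tag_cases χ with e | ⟨e, rfl, h22⟩ | ⟨e, rfl, h22⟩ | ⟨e, rfl, h35⟩ <;> rw [e] <;> simp only [tagW]
  · rw [iv_eq hv, (M.kind22 h22).1, decide_eq_true_eq]
  · have hv2 := (M.at7 hw2).2.2.2 M.cm M.cm7
    rw [(M.kind22 h22).1] at hv hv2
    have := M.alt_iv h22 hv hv2 ((M.at7 hw).1.int M.alt)
    rw [decide_eq_true_eq]
    omega
  · rcases M.cm_deg with ⟨e', -⟩ | ⟨-, -, s, -⟩
    · omega
    · rw [iv_eq hv, s, decide_eq_true_eq]

/-- The squares of the values at an element of order 7, with the members of the block for 7. -/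
theorem Members.sq_bound7 (hr : M.Adm rs) {w : G} (hw : orderOf w = 7) :
    6 + (rs.map fun χ => ((M.ent χ).2 : ℤ) * (iv χ w * iv χ w)).sum ≤ 7 * (k7 : ℤ) := by
  obtain ⟨hI, hC, -, hv⟩ := M.at7 hw
  obtain ⟨O, hO⟩ : ∃ O, O = M.B7.xl.erase M.cm := ⟨_, rfl⟩
  have hnd7 : M.B7.xl.Nodup := (List.nodup_append.mp (List.nodup_cons.mp M.B7.nodup).2).1
  have hlen : O.length = 5 := by rw [hO, List.length_erase_of_mem M.cm7, M.len7]
  have hm : ∀ φ ∈ O, φ ∈ M.B7.xl ∧ φ ≠ M.cm := fun φ hφ =>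
    ⟨List.mem_of_mem_erase (hO ▸ hφ), fun e => hnd7.not_mem_erase (e ▸ hO ▸ hφ)⟩
  have hnd : (Blocks.trivIrr G :: ((M.cs ++ [M.ψ, M.ψ']) ++ O)).Nodup := by
    refine List.nodup_cons.mpr ⟨fun h => ?_, List.nodup_append.mpr ⟨M.nd_cs, hO ▸ hnd7.erase _, fun x hx z hz e => ?_⟩⟩
    · rcases List.mem_append.mp h with h | h
      · exact M.ne_triv (List.mem_append_left _ (List.mem_append_right _ h)) rfl
      · exact M.B7.ne_triv (List.mem_append_left _ (hm _ h).1) rfl
    · exact M.others z (hm z hz).1 (hm z hz).2 (e ▸ hx)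
  have h := sum_sq_le hnd (g := w) fun χ _ => hI.int χ
  rw [List.map_cons, List.sum_cons, iv_triv, List.map_append, List.sum_append, hC,
    M.sum_ext hr (fun χ => iv χ w * iv χ w) (by rw [M.relψ hI]),
    List.map_congr_left (l := O) (g := fun _ => (1 : ℤ)) fun φ hφ => by
      rw [iv_eq (hv φ (hm φ hφ).1)]
      rcases M.B7.σ_unit (hm φ hφ).1 with e | e <;> rw [e] <;> norm_num] at h
  simp only [List.map_const', List.sum_replicate, hlen] at h
  push_cast at h
  norm_num at h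
  linarith

end CfsgLib.M24Order.E6
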